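/-
Additive subgroups of a four-dimensional quadratic space of Witt index one which are stable under the
unipotent elements fixing a non-singular vector: a line, or everything.
-/
import Cfsg.Agent.Lib.OrthDeg.Count
import Cfsg.Agent.Lib.OrthMinIndex.Moves

set_option autoImplicit false

namespace Cfsg.Agent.PSU4Index

open QuadraticMap Module Cfsg.Agent.Orth Cfsg.Agent.OrthDeg

variable {F W : Type*} [Field F] [AddCommGroup W] [Module F W] {Q : QuadraticForm F W} {A : AddSubgroup W} {v : W}

/-- The subgroup is stable under the unipotent elements fixing v. -/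
def Stab (Q : QuadraticForm F W) (A : AddSubgroup W) (v : W) : Prop :=
  ∀ u x a, Q u = 0 → polar Q u v = 0 → polar Q x v = 0 → polar Q u x = 0 → a ∈ A →
    polar Q a u • x - (polar Q a x + Q x * polar Q a u) • u ∈ A

/-- No totally singular plane. -/
def NoPlane (Q : QuadraticForm F W) : Prop :=
  ∀ a b, a ≠ 0 → Q a = 0 → Q b = 0 → polar Q a b = 0 → b ∈ Submodule.span F {a}

theorem sq_diff [Finite F] (h2 : (2 : F) ≠ 0) (t : F) : ∃ c c' : F, c * c - c' * c' = t :=
  ⟨(t + 1) / 2, (t - 1) / 2, by field_simp; ring⟩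

theorem exists_avoid [Finite F] (hq : 3 ≤ Nat.card F) (b : F) : ∃ c : F, c ≠ 0 ∧ c ≠ b := by
  by_contra hcon
  push Not at hcon
  classical
  haveI := Fintype.ofFinite F
  have hsub : (Finset.univ : Finset F) ⊆ {0, b} := fun x _ => by
    by_cases hx : x = 0
    · rw [hx]; exact Finset.mem_insert_self _ _
    · rw [hcon x hx]; exact Finset.mem_insert_of_mem (Finset.mem_singleton_self _)
  have := (Finset.card_le_card hsub).trans Finset.card_le_two
  rw [Finset.card_univ, ← Nat.card_eq_fintype_card] at this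
  omega

theorem one_of_two [Finite F] (hq : Nat.card F = 2) {s : F} (hs : s ≠ 0) : s = 1 := by
  by_contra h1
  obtain ⟨a, b, hab, hu⟩ := Nat.card_eq_two_iff.1 hq
  have key : ∀ x : F, x = a ∨ x = b := fun x => by
    have := hu.ge (Set.mem_univ x)
    simpa using this
  rcases key 0 with h0 | h0 <;> rcases key 1 with h | h <;> rcases key s with h' | h' <;>
    first | exact hs (h'.trans h0.symm) | exact h1 (h'.trans h.symm) | exact zero_ne_one (h0.trans h.symm)

theorem four_le [Finite F] (h2 : (2 : F) = 0) (hq : Nat.card F ≠ 2) : 4 ≤ Nat.card F := by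
  haveI : CharP F 2 := CharTwo.of_one_ne_zero_of_two_eq_zero one_ne_zero h2
  haveI := Fintype.ofFinite F
  obtain ⟨n, -, hn⟩ := FiniteField.card F 2
  rw [← Nat.card_eq_fintype_card] at hn
  rcases Nat.lt_or_ge (n : ℕ) 2 with h | h
  · exact absurd (by rw [hn, show (n : ℕ) = 1 by have := n.pos; omega, pow_one]) hq
  · rw [hn]; exact le_trans (le_of_eq (by norm_num)) (Nat.pow_le_pow_right two_pos h)

/-- A singular pair orthogonal to v, and a second vector in its orthogonal. -/
structure Frame (Q : QuadraticForm F W) (v u d z : W) : Prop where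
  pair : IsPair Q u d
  uv : polar Q u v = 0
  dv : polar Q d v = 0
  zu : polar Q u z = 0
  zd : polar Q d z = 0
  spans : ∀ x, polar Q u x = 0 → polar Q d x = 0 → ∃ g h : F, x = g • v + h • z

theorem Frame.swap {u d z : W} (fr : Frame Q v u d z) : Frame Q v d u z :=
  ⟨fr.pair.symm, fr.dv, fr.uv, fr.zd, fr.zu, fun x h1 h2 => fr.spans x h2 h1⟩

/-- Every vector in the coordinates of the frame. -/
theorem Frame.coords {u d z : W} (fr : Frame Q v u d z) (x : W) :
    ∃ g h : F, x = polar Q x d • u + polar Q x u • d + (g • v + h • z) := by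
  obtain ⟨h1, h2⟩ := mem_pperp.1 (pperp_part fr.pair x)
  obtain ⟨g, h, e⟩ := fr.spans _ h1 h2
  exact ⟨g, h, by rw [← e]; module⟩

theorem Frame.ne_v {u d z : W} (fr : Frame Q v u d z) : ∀ t : F, u + d ≠ t • v := fun t ht => by
  have := congrArg (fun y => polar Q u y) ht
  simp only [b_add_right, b_smul_right, fr.pair.ee, fr.pair.ed, fr.uv, zero_add, mul_zero] at this
  exact one_ne_zero this

section Odd

variable (h2 : (2 : F) ≠ 0) (hA : Stab Q A v)
include h2 hA

/-- In odd characteristic one element with a coordinate puts a whole singular line into A. -/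
theorem odd_line [Finite F] {u d z : W} (fr : Frame Q v u d z) (hzv : polar Q z v = 0) (hz : Q z ≠ 0) {a : W}
    (ha : a ∈ A) (h : polar Q a d ≠ 0 ∨ polar Q a z ≠ 0) (t : F) : t • d ∈ A := by
  have op : ∀ c : F, (polar Q a d * c) • z - (c * polar Q a z + c * c * Q z * polar Q a d) • d ∈ A := fun c => by
    have h1 := hA d (c • z) a fr.pair.qd fr.dv (by rw [b_smul_left, hzv, mul_zero])
      (by rw [b_smul_right, fr.zd, mul_zero]) ha
    rwa [smul_smul, b_smul_right, q_smul] at h1
  by_cases hd : polar Q a d = 0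
  · have hz' := h.resolve_left (not_not.2 hd)
    have h1 := op (-t / polar Q a z)
    rw [hd] at h1
    convert h1 using 1
    match_scalars <;> field_simp <;> ring
  · obtain ⟨c, c', hc⟩ := sq_diff h2 (t / (-2 * Q z * polar Q a d))
    have h1 := A.sub_mem (A.add_mem (op c) (op (-c))) (A.add_mem (op c') (op (-c')))
    rw [eq_div_iff (by simp [h2, hz, hd])] at hc
    convert h1 using 1
    rw [← hc]
    module

/-- A singular line in A puts the whole orthogonal of v into A. -/
theorem odd_full {u d z : W} (fr : Frame Q v u d z) (hzv : polar Q z v = 0) (hz : Q z ≠ 0) (hv : Q v ≠ 0)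
    (hd : ∀ t : F, t • d ∈ A) {x : W} (hx : polar Q x v = 0) : x ∈ A := by
  have op : ∀ t c : F, (t * c) • z - (t * (c * c) * Q z) • u ∈ A := fun t c => by
    have h1 := hA u (c • z) (t • d) fr.pair.qe fr.uv (by rw [b_smul_left, hzv, mul_zero])
      (by rw [b_smul_right, fr.zu, mul_zero]) (hd t)
    rw [b_smul_left, fr.pair.de, b_smul_left, b_smul_right, fr.zd, q_smul] at h1
    convert h1 using 1
    module
  have hu : ∀ t : F, t • u ∈ A := fun t => by
    have h1 := A.add_mem (op (-t / (2 * Q z)) 1) (op (-t / (2 * Q z)) (-1))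
    convert h1 using 1
    match_scalars <;> field_simp <;> ring
  obtain ⟨g, h, e⟩ := fr.coords x
  have hg : g = 0 := by
    have := congrArg (fun y => polar Q y v) e
    simp only [b_add_left, b_smul_left, hx, fr.uv, fr.dv, hzv, b_self, mul_zero, add_zero, zero_add] at this
    exact (mul_eq_zero.1 this.symm).resolve_right (mul_ne_zero h2 hv)
  have hzA : h • z ∈ A := by
    have h1 := A.add_mem (op h 1) (hu (h * Q z))
    convert h1 using 1
    module
  rw [e, hg, zero_smul, zero_add]
  exact A.add_mem (A.add_mem (hu _) (hd _)) hzA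

end Odd

section Even

variable (h2 : (2 : F) = 0) (hA : Stab Q A v)
include h2 hA

theorem op_even {u d z : W} (fr : Frame Q v u d z) {a : W} (ha : a ∈ A) (c : F) :
    (polar Q a d * c) • v - (c * polar Q a v + c * c * Q v * polar Q a d) • d ∈ A := by
  have h1 := hA d (c • v) a fr.pair.qd fr.dv (by rw [b_smul_left, b_self, h2]; ring)
    (by rw [b_smul_right, fr.dv, mul_zero]) ha
  rwa [smul_smul, b_smul_right, q_smul] at h1

/-- The linear case. -/
theorem even_lin {u d z : W} (fr : Frame Q v u d z) {a : W} (ha : a ∈ A) (hd : polar Q a d = 0)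
    (hv : polar Q a v ≠ 0) (t : F) : t • d ∈ A := by
  have h1 := op_even h2 hA fr ha (-t / polar Q a v)
  rw [hd] at h1
  convert h1 using 1
  match_scalars <;> field_simp <;> ring

/-- A singular line in A puts the whole orthogonal of v into A. -/
theorem even_full {u d z : W} (fr : Frame Q v u d z) (hzv : polar Q z v ≠ 0) (hv : Q v ≠ 0)
    (hd : ∀ t : F, t • d ∈ A) {x : W} (hx : polar Q x v = 0) : x ∈ A := by
  have hb : ∀ t : F, t • (v - Q v • u) ∈ A := fun t => by
    have h1 := op_even h2 hA fr.swap (hd t) 1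
    rw [b_smul_left, fr.pair.de, b_smul_left, fr.dv] at h1
    convert h1 using 1
    module
  have hvA : ∀ t : F, t • v ∈ A := fun t => by
    have h1 := A.add_mem (op_even h2 hA fr (hb (-t / Q v)) 1) (hd (-(Q v * Q v * (-t / Q v))))
    simp only [b_smul_left, b_sub_left, b_self, h2, fr.uv, fr.pair.ed, b_comm v d, fr.dv] at h1
    convert h1 using 1
    match_scalars <;> field_simp <;> ring
  have hu : ∀ t : F, t • u ∈ A := fun t => by
    have h1 := A.sub_mem (hvA (t / Q v)) (hb (t / Q v))
    convert h1 using 1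
    match_scalars <;> field_simp <;> ring
  obtain ⟨g, h, e⟩ := fr.coords x
  have hh : h = 0 := by
    have := congrArg (fun y => polar Q y v) e
    simp only [b_add_left, b_smul_left, hx, fr.uv, fr.dv, b_self, h2, zero_mul, mul_zero, add_zero,
      zero_add] at this
    exact (mul_eq_zero.1 this.symm).resolve_right hzv
  rw [e, hh, zero_smul, add_zero]
  exact A.add_mem (A.add_mem (hu _) (hd _)) (hvA g)

/-- The general case over at least four elements. -/
theorem even_line [Finite F] {u d z : W} (fr : Frame Q v u d z) (hv : Q v ≠ 0) (hq : 4 ≤ Nat.card F) {a : W}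
    (ha : a ∈ A) (hd : polar Q a d ≠ 0) (t : F) : t • d ∈ A := by
  haveI : CharP F 2 := CharTwo.of_one_ne_zero_of_two_eq_zero one_ne_zero h2
  have hsq : ∀ x : F, ∃ c, c * c = x := fun x => by
    obtain ⟨c, hc⟩ := FiniteField.isSquare_of_char_two (ringChar.eq F 2) x
    exact ⟨c, hc.symm⟩
  -- a convenient element with no coordinate along z
  obtain ⟨c, hc0, hk⟩ : ∃ c : F, c ≠ 0 ∧ c * polar Q a v + c * c * Q v * polar Q a d ≠ 0 := by
    obtain ⟨c, hc0, hc⟩ := exists_avoid (F := F) (by omega) (-polar Q a v / (Q v * polar Q a d))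
    refine ⟨c, hc0, fun h => hc ?_⟩
    rw [eq_div_iff (mul_ne_zero hv hd)]
    exact mul_left_cancel₀ hc0 (by linear_combination h)
  obtain ⟨b', hb', hbd, hbv⟩ : ∃ b' ∈ A, polar Q b' d ≠ 0 ∧ polar Q b' v = 0 := by
    refine ⟨_, op_even h2 hA fr.swap (op_even h2 hA fr ha c) 1, ?_, ?_⟩
    · simp only [b_sub_left, b_smul_left, fr.pair.de, fr.pair.ed, fr.dv, fr.uv, b_self, h2, b_comm v u, b_comm v d]
      simp only [mul_one, one_mul, mul_zero, zero_mul, sub_zero, zero_sub, zero_add]
      exact neg_ne_zero.2 (mul_ne_zero hv (neg_ne_zero.2 hk))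
    · simp only [b_sub_left, b_smul_left, fr.dv, fr.uv, b_self, h2]
      ring
  -- all multiples of v - Q(v) u
  have hb : ∀ K : F, K • (v - Q v • u) ∈ A := fun K => by
    obtain ⟨s, hs⟩ := hsq (-K / (Q v * polar Q b' d))
    rw [eq_div_iff (mul_ne_zero hv hbd)] at hs
    have h1 := op_even h2 hA fr.swap (op_even h2 hA fr hb' s) 1
    simp only [b_sub_left, b_smul_left, hbv, fr.dv, b_self, h2, b_comm v u, fr.uv, fr.pair.de] at h1
    convert h1 using 1
    match_scalars
    all_goals first | linear_combination hs | linear_combination -hs | linear_combination Q v * hs | linear_combination -(Q v) * hs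
  obtain ⟨c₀, hc₀, hc₁⟩ := exists_avoid (F := F) (by omega) 1
  obtain ⟨T, hT⟩ : ∃ T, t / (Q v * Q v * (c₀ - 1)) = T := ⟨_, rfl⟩
  rw [div_eq_iff (mul_ne_zero (mul_ne_zero hv hv) (sub_ne_zero.2 hc₁))] at hT
  have h1 := A.sub_mem (op_even h2 hA fr (hb (T / c₀)) c₀) (op_even h2 hA fr (hb T) 1)
  simp only [b_smul_left, b_sub_left, b_self, h2, fr.uv, fr.pair.ed, b_comm v d, fr.dv] at h1
  convert h1 using 1
  rw [hT]
  match_scalars <;> field_simp <;> ring

end Even

section Frames

variable [FiniteDimensional F W] [Finite F] (hQ : (polarBilin Q).Nondegenerate) (hd : finrank F W = 4)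
include hQ hd

/-- A singular pair orthogonal to a non-singular vector. -/
theorem exists_pair_orth (hv : Q v ≠ 0) : ∃ u d, IsPair Q u d ∧ polar Q u v = 0 ∧ polar Q d v = 0 := by
  have hv0 : v ≠ 0 := fun h => hv (by rw [h, map_zero])
  rcases ne_or_eq (2 : F) 0 with h2 | h2
  · have hP : ∀ a ∈ Submodule.span F {v}, (∀ b ∈ Submodule.span F {v}, polar Q a b = 0) → a = 0 := by
      intro a ha h
      obtain ⟨t, rfl⟩ := Submodule.mem_span_singleton.1 ha
      have h1 := h v (Submodule.mem_span_singleton_self v)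
      rw [b_smul_left, b_self] at h1
      rw [(mul_eq_zero.1 h1).resolve_right (mul_ne_zero h2 hv), zero_smul]
    obtain ⟨e, f, he, hf, qe, qf, ef⟩ := exists_hyp_perp hQ hP (by rw [finrank_span_singleton hv0]; omega)
    exact ⟨e, f, ⟨qe, qf, ef⟩, by rw [b_comm]; exact he v (Submodule.mem_span_singleton_self v),
      by rw [b_comm]; exact hf v (Submodule.mem_span_singleton_self v)⟩
  · haveI : CharP F 2 := CharTwo.of_one_ne_zero_of_two_eq_zero one_ne_zero h2
    have hp := finrank_perp_eq hQ (Submodule.span F {v})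
    obtain ⟨a, ha, hav⟩ : ∃ a ∈ perp Q (Submodule.span F {v}), a ∉ Submodule.span F {v} := by
      by_contra hcon
      push Not at hcon
      have h1 := Submodule.finrank_mono (show perp Q (Submodule.span F {v}) ≤ Submodule.span F {v} from hcon)
      rw [finrank_span_singleton hv0] at hp h1
      omega
    have hva : polar Q v a = 0 := ha v (Submodule.mem_span_singleton_self v)
    obtain ⟨s, hs⟩ := FiniteField.isSquare_of_char_two (ringChar.eq F 2) (-Q a / Q v)
    have hu : Q (a + s • v) = 0 := by
      rw [q_add, q_smul, b_smul_right, b_comm a v, hva, ← hs, div_mul_cancel₀ _ hv]; ring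
    have hu0 : a + s • v ∉ Submodule.span F {v} := fun h => hav (by
      simpa using Submodule.sub_mem _ h (Submodule.smul_mem _ s (Submodule.mem_span_singleton_self v)))
    obtain ⟨y, hy, huy⟩ := exists_orth_not hQ hu0 1
    have huv : polar Q (a + s • v) v = 0 := by rw [b_add_left, b_smul_left, b_self, h2, b_comm a v, hva]; ring
    refine ⟨a + s • v, y - Q y • (a + s • v), ⟨hu, ?_, ?_⟩, huv, ?_⟩
    · rw [q_sub, q_smul, b_smul_right, hu, b_comm y, huy]; ring
    · rw [b_sub_right, b_smul_right, b_self, hu, huy]; ring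
    · rw [b_sub_left, b_smul_left, huv, b_comm y v, hy v (Submodule.mem_span_singleton_self v)]; ring

/-- A frame at a non-singular vector. -/
theorem exists_frame (hns : NoPlane Q) (hv : Q v ≠ 0) :
    ∃ u d z, Frame Q v u d z ∧
      (((2 : F) ≠ 0 → polar Q z v = 0 ∧ Q z ≠ 0) ∧ ((2 : F) = 0 → polar Q z v ≠ 0)) := by
  have hv0 : v ≠ 0 := fun h => hv (by rw [h, map_zero])
  obtain ⟨u, d, p, huv, hdv⟩ := exists_pair_orth hQ hd hv
  have hZ : finrank F (pperp Q u d) = 2 := by have := finrank_pperp p; omega
  have hvZ : v ∈ pperp Q u d := mem_pperp.2 ⟨huv, hdv⟩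
  -- spanning from a vector outside the line of v
  have spans : ∀ z ∈ pperp Q u d, z ∉ Submodule.span F {v} → Frame Q v u d z := by
    intro z hz hzv
    obtain ⟨h1, h2⟩ := mem_pperp.1 hz
    refine ⟨p, huv, hdv, h1, h2, fun x hx1 hx2 => ?_⟩
    have hind : LinearIndependent F ![v, z] :=
      (LinearIndependent.pair_iff' hv0).2 fun t ht => hzv (Submodule.mem_span_singleton.2 ⟨t, ht⟩)
    have hspan : Submodule.span F ({v, z} : Set W) = pperp Q u d :=
      Submodule.eq_of_le_of_finrank_le (Submodule.span_le.2 (by simp [Set.insert_subset_iff, hvZ, hz]))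
        (by rw [OrthMin.finrank_span_pair hind, hZ])
    have hx : x ∈ Submodule.span F ({v, z} : Set W) := hspan ▸ mem_pperp.2 ⟨hx1, hx2⟩
    obtain ⟨g, h, e⟩ := Submodule.mem_span_pair.1 hx
    exact ⟨g, h, e.symm⟩
  -- anisotropy of the orthogonal of the pair
  have han : ∀ z ∈ pperp Q u d, Q z = 0 → z = 0 := by
    intro z hz hz0
    obtain ⟨h1, h2⟩ := mem_pperp.1 hz
    obtain ⟨t, rfl⟩ := Submodule.mem_span_singleton.1 (hns u z p.ne p.qe hz0 h1)
    rw [b_smul_right, p.de, mul_one] at h2
    rw [h2, zero_smul]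
  rcases ne_or_eq (2 : F) 0 with h2 | h2
  · obtain ⟨y, hy, hyv⟩ : ∃ y ∈ pperp Q u d, y ∉ Submodule.span F {v} := by
      by_contra hcon
      push Not at hcon
      have h1 := Submodule.finrank_mono (show pperp Q u d ≤ Submodule.span F {v} from hcon)
      rw [finrank_span_singleton hv0] at h1
      omega
    have hB : polar Q v v ≠ 0 := by rw [b_self]; exact mul_ne_zero h2 hv
    obtain ⟨z, hz⟩ : ∃ z, y - (polar Q y v / polar Q v v) • v = z := ⟨_, rfl⟩
    have hzZ : z ∈ pperp Q u d := hz ▸ Submodule.sub_mem _ hy (Submodule.smul_mem _ _ hvZ)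
    have hznv : z ∉ Submodule.span F {v} := fun h => hyv (by
      simpa [← hz] using Submodule.add_mem _ h
        (Submodule.smul_mem _ (polar Q y v / polar Q v v) (Submodule.mem_span_singleton_self v)))
    refine ⟨u, d, z, spans z hzZ hznv, fun _ => ⟨?_, fun h => hznv ?_⟩, fun h => absurd h h2⟩
    · rw [← hz, b_sub_left, b_smul_left, div_mul_cancel₀ _ hB, sub_self]
    · rw [han z hzZ h]; exact Submodule.zero_mem _
  · obtain ⟨z, hz, hzv⟩ : ∃ z ∈ pperp Q u d, polar Q z v ≠ 0 := by
      by_contra hcon
      push Not at hcon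
      exact hv0 (congrArg Subtype.val (eq_zero_of_b (pperp_nondeg hQ p) (x := (⟨v, hvZ⟩ : pperp Q u d))
        fun y => by rw [polar_restr, b_comm]; exact hcon y y.2))
    refine ⟨u, d, z, spans z hz fun h => hzv ?_, fun h => absurd h2 h, fun _ => hzv⟩
    obtain ⟨t, rfl⟩ := Submodule.mem_span_singleton.1 h
    rw [b_smul_left, b_self, h2]; ring

/-- An element off the line of v puts the orthogonal of v into A, apart from one exception over two elements. -/
theorem orth_le (hns : NoPlane Q) (hv : Q v ≠ 0) (hA : Stab Q A v) (hvA : v ∈ A) {a : W} (ha : a ∈ A)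
    (hav : a ∉ Submodule.span F {v})
    (hex : ¬ (Nat.card F = 2 ∧ Q a = 0 ∧ polar Q a v ≠ 0)) : ∀ x, polar Q x v = 0 → x ∈ A := by
  obtain ⟨u, d, z, fr, hodd, heven⟩ := exists_frame hQ hd hns hv
  obtain ⟨g, h, e⟩ := fr.coords a
  have h0 : ¬ (polar Q a u = 0 ∧ polar Q a d = 0 ∧ h = 0) := fun ⟨h1, h2, h3⟩ => hav (by
    rw [e, h1, h2, h3, zero_smul, zero_smul, zero_smul, zero_add, zero_add, add_zero]
    exact Submodule.smul_mem _ _ (Submodule.mem_span_singleton_self v))
  rcases ne_or_eq (2 : F) 0 with h2 | h2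
  · obtain ⟨hzv, hz⟩ := hodd h2
    intro x hx
    have haz : polar Q a z = h * (2 * Q z) := by
      have := congrArg (fun y => polar Q y z) e
      simpa only [b_add_left, b_smul_left, fr.zu, fr.zd, b_comm v z, hzv, b_self, mul_zero, zero_add] using this
    by_cases hc : polar Q a d ≠ 0 ∨ polar Q a z ≠ 0
    · exact odd_full h2 hA fr hzv hz hv (odd_line h2 hA fr hzv hz ha hc) hx
    · push Not at hc
      have hh : h = 0 := (mul_eq_zero.1 (haz.symm.trans hc.2)).resolve_right (mul_ne_zero h2 hz)
      exact odd_full h2 hA fr.swap hzv hz hv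
        (odd_line h2 hA fr.swap hzv hz ha (Or.inl fun hu => h0 ⟨hu, hc.1, hh⟩)) hx
  · have hzv := heven h2
    haveI : CharP F 2 := CharTwo.of_one_ne_zero_of_two_eq_zero one_ne_zero h2
    intro x hx
    have haz : polar Q a v = h * polar Q z v := by
      have := congrArg (fun y => polar Q y v) e
      simpa only [b_add_left, b_smul_left, fr.uv, fr.dv, b_self, h2, zero_mul, mul_zero, zero_add] using this
    have full := fun (w : ∀ t : F, t • d ∈ A) => even_full h2 hA fr hzv hv w hx
    have full' := fun (w : ∀ t : F, t • u ∈ A) => even_full h2 hA fr.swap hzv hv w hx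
    by_cases hd0 : polar Q a d = 0
    · by_cases hv' : polar Q a v = 0
      · have hh : h = 0 := (mul_eq_zero.1 (haz.symm.trans hv')).resolve_right hzv
        have hu0 : polar Q a u ≠ 0 := fun hu => h0 ⟨hu, hd0, hh⟩
        by_cases hq : Nat.card F = 2
        · refine full' fun t => ?_
          rcases eq_or_ne t 0 with rfl | ht
          · rw [zero_smul]; exact A.zero_mem
          · have h1 := A.sub_mem hvA (op_even h2 hA fr.swap ha 1)
            rw [one_of_two hq ht]
            rw [one_of_two hq hu0, hv', one_of_two hq hv] at h1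
            convert h1 using 1
            module
        · exact full' (even_line h2 hA fr.swap hv (four_le h2 hq) ha hu0)
      · exact full (even_lin h2 hA fr ha hd0 hv')
    · by_cases hq : Nat.card F = 2
      · by_cases hv' : polar Q a v = 0
        · refine full fun t => ?_
          rcases eq_or_ne t 0 with rfl | ht
          · rw [zero_smul]; exact A.zero_mem
          · have h1 := A.sub_mem hvA (op_even h2 hA fr ha 1)
            rw [one_of_two hq ht]
            rw [one_of_two hq hd0, hv', one_of_two hq hv] at h1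
            convert h1 using 1
            module
        · by_cases hu0 : polar Q a u = 0
          · exact full' (even_lin h2 hA fr.swap ha hu0 hv')
          · refine absurd ⟨hq, ?_, hv'⟩ hex
            -- the exception is singular
            obtain ⟨r, hr⟩ : ∃ r, g • v + h • z = r := ⟨_, rfl⟩
            have hru : polar Q u r = 0 := by rw [← hr, b_add_right, b_smul_right, b_smul_right, fr.uv, fr.zu]; ring
            have hrd : polar Q d r = 0 := by rw [← hr, b_add_right, b_smul_right, b_smul_right, fr.dv, fr.zd]; ring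
            have hr0 : Q r ≠ 0 := fun h1 => by
              obtain ⟨s, rfl⟩ := Submodule.mem_span_singleton.1 (hns u r fr.pair.ne fr.pair.qe h1 hru)
              rw [b_smul_right, fr.pair.de, mul_one] at hrd
              rw [hrd, zero_smul] at hr
              have := congrArg (fun y => polar Q y v) hr
              simp only [b_add_left, b_smul_left, b_self, h2, b_zero_left, zero_mul, mul_zero, zero_add] at this
              exact hv' (haz.trans this)
            rw [hr] at e
            rw [e, (pperp_coords fr.pair (polar Q a d) (polar Q a u) (mem_pperp.2 ⟨hru, hrd⟩)).2.2,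
              one_of_two hq hd0, one_of_two hq hu0, one_of_two hq hr0, mul_one, ← two_mul, h2, zero_mul]
      · exact full (even_line h2 hA fr hv (four_le h2 hq) ha hd0)

/-- The orthogonal of v together with v forces everything. -/
theorem top_of_orth (hns : NoPlane Q) (hv : Q v ≠ 0) (hvA : v ∈ A)
    (hA : ∀ w, Q w ≠ 0 → w ∈ A → Stab Q A w) (hx : ∀ x, polar Q x v = 0 → x ∈ A) : A = ⊤ := by
  obtain ⟨u, d, z, fr, hodd, heven⟩ := exists_frame hQ hd hns hv
  have hwv : polar Q (u + d) v = 0 := by rw [b_add_left, fr.uv, fr.dv, add_zero]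
  have hw : Q (u + d) = 1 := by rw [q_add, fr.pair.qe, fr.pair.qd, fr.pair.ed]; ring
  have hw0 : u + d ≠ 0 := fun h => fr.ne_v 0 (by rw [h, zero_smul])
  have hvw : v ∉ Submodule.span F {u + d} := fun h => by
    obtain ⟨t, ht⟩ := Submodule.mem_span_singleton.1 h
    have ht0 : t ≠ 0 := fun h0 => hv (by rw [← ht, h0, zero_smul, map_zero])
    exact fr.ne_v t⁻¹ (by rw [← ht, smul_smul, inv_mul_cancel₀ ht0, one_smul])
  have hW := orth_le hQ hd hns (v := u + d) (by rw [hw]; exact one_ne_zero) (hA _ (by rw [hw]; exact one_ne_zero) (hx _ hwv))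
    (hx _ hwv) hvA hvw (fun h => hv h.2.1)
  obtain ⟨y, hy, hyv⟩ : ∃ y, polar Q y (u + d) = 0 ∧ polar Q y v ≠ 0 := by
    rcases ne_or_eq (2 : F) 0 with h2 | h2
    · exact ⟨v, by rw [b_comm]; exact hwv, by rw [b_self]; exact mul_ne_zero h2 hv⟩
    · exact ⟨z, by rw [b_add_right, b_comm z u, b_comm z d, fr.zu, fr.zd, add_zero], heven h2⟩
  refine eq_top_iff.2 fun x _ => ?_
  obtain ⟨t, ht⟩ : ∃ t, polar Q x v / polar Q y v = t := ⟨_, rfl⟩
  have h1 : x - t • y ∈ A := hx _ (by rw [b_sub_left, b_smul_left, ← ht, div_mul_cancel₀ _ hyv, sub_self])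
  have h2 : t • y ∈ A := hW _ (by rw [b_smul_left, hy, mul_zero])
  simpa using A.add_mem h1 h2

end Frames

end Cfsg.Agent.PSU4Index
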