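/-
Root groups and singular points of a six-dimensional quadratic space of Witt index two.
-/
import Cfsg.Agent.Lib.OrthMinIndex.Bounds
import Cfsg.Agent.Lib.PSU4Index.Alg

set_option autoImplicit false

namespace Cfsg.Agent.PSU4Index

open QuadraticMap Module Cfsg.Agent.Orth Cfsg.Agent.OrthDeg Cfsg.Agent.OrthMin

variable {F V : Type*} [Field F] [AddCommGroup V] [Module F V] {Q : QuadraticForm F V}
variable [FiniteDimensional F V] [Fintype F]

/-- The spaces under consideration. -/
structure Six (Q : QuadraticForm F V) : Prop where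
  good : Good Q
  ty : HasType Q 2 2

theorem Six.six (h : Six Q) : finrank F V = 6 := by have := h.ty.1; omega

theorem Six.four (h : Six Q) {e f : V} (p : IsPair Q e f) : finrank F (pperp Q e f) = 4 := by
  have := finrank_pperp p
  have := h.six
  omega

theorem Six.nd_perp (h : Six Q) {e f : V} (p : IsPair Q e f) :
    (polarBilin (restr Q (pperp Q e f))).Nondegenerate := pperp_nondeg h.good.nd p

/-- In the orthogonal of a pair two orthogonal singular vectors are proportional. -/
theorem Six.noPlane (h : Six Q) {e f : V} (p : IsPair Q e f) : NoPlane (restr Q (pperp Q e f)) := by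
  haveI : Finite V := Module.finite_of_finite F
  intro a b ha0 ha hb hab
  obtain ⟨d, hd, hd0⟩ := exists_partner (h.nd_perp p) ha0 ha
  have pa : IsPair (restr Q (pperp Q e f)) a d := ⟨ha, hd0, hd⟩
  have hT := (h.ty.restrict p).restrict pa
  have h1 : polar (restr Q (pperp Q e f)) b a = 0 := by rw [b_comm]; exact hab
  have hr := pperp_part pa b
  rw [h1, zero_smul, sub_zero] at hr
  have hq : restr Q (pperp Q e f) (b - polar (restr Q (pperp Q e f)) b d • a) = 0 := by
    rw [q_sub, q_smul, b_smul_right, h1, hb, ha]; ring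
  have huniq := (Nat.card_eq_one_iff_unique.1 hT.2).1
  have h2 := huniq.elim ⟨⟨_, hr⟩, hq⟩ ⟨0, map_zero _⟩
  have h3 : b - polar (restr Q (pperp Q e f)) b d • a = 0 := congrArg (fun z => (z.1 : pperp Q e f)) h2
  exact Submodule.mem_span_singleton.2 ⟨_, (sub_eq_zero.1 h3).symm⟩

/-- Every value is taken often in the orthogonal of a pair. -/
theorem Six.level_ge (h : Six Q) {e f : V} (p : IsPair Q e f) {γ : F} (hγ : γ ≠ 0) :
    Nat.card F ^ 3 + Nat.card F ≤ Nat.card {v : pperp Q e f // restr Q (pperp Q e f) v = γ} := by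
  have h1 := level_bound 1 (h.nd_perp p) le_rfl (h.ty.restrict p) hγ
  simp only [levelErr] at h1
  have h2 : Nat.card F * (Nat.card F ^ 3 + Nat.card F) ≤
      Nat.card F * Nat.card {v : pperp Q e f // restr Q (pperp Q e f) v = γ} := by
    rw [← Int.ofNat_le]
    push_cast
    refine le_trans (le_of_eq ?_) h1
    ring
  exact Nat.le_of_mul_le_mul_left h2 Nat.card_pos

/-- The nonzero singular vectors in the orthogonal of a pair. -/
theorem Six.card_sing (h : Six Q) {e f : V} (p : IsPair Q e f) :
    Nat.card {v : pperp Q e f // restr Q (pperp Q e f) v = 0} = (Nat.card F - 1) * Nat.card F ^ 2 + Nat.card F := by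
  rw [(h.ty.restrict p).2]
  show (Nat.card F - 1) * Nat.card F ^ (2 * 0 + 2) + Nat.card F * 1 = _
  ring

/-- A root element is trivial only for the multiples of its centre. -/
theorem Six.tr_eq_one (h : Six Q) {u y : V} (hu : Q u = 0) (hu0 : u ≠ 0) (hy : polar Q u y = 0)
    (h1 : tr Q u y = 1) : y ∈ Submodule.span F {u} := by
  obtain ⟨d, hd, hd0⟩ := exists_partner h.good.nd hu0 hu
  have h2 := tr_apply h.good hu hy d
  rw [h1, app_one, b_comm d u, hd, one_smul] at h2
  refine Submodule.mem_span_singleton.2 ⟨polar Q d y + Q y * 1, ?_⟩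
  linear_combination (norm := module) h2

/-- In the orthogonal of a pair the root map is injective. -/
theorem Six.root_inj (h : Six Q) {e f : V} (p : IsPair Q e f) {y : pperp Q e f}
    (h1 : tr Q e (y : V) = 1) : y = 0 := by
  obtain ⟨hye, hyf⟩ := mem_pperp.1 y.2
  obtain ⟨t, ht⟩ := Submodule.mem_span_singleton.1 (h.tr_eq_one p.qe p.ne hye h1)
  rw [← ht, b_smul_right, p.de, mul_one] at hyf
  exact Subtype.ext (by rw [← ht, hyf, zero_smul]; rfl)

theorem Six.exists_pair (h : Six Q) : ∃ e f, IsPair Q e f := h.ty.exists_pair h.good.nd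

/-- A pair in the orthogonal of a pair. -/
theorem Six.exists_pair_in (h : Six Q) {e f : V} (p : IsPair Q e f) :
    ∃ g g', IsPair Q g g' ∧ g ∈ pperp Q e f ∧ g' ∈ pperp Q e f := by
  obtain ⟨g, g', hp⟩ := (h.ty.restrict p).exists_pair (h.nd_perp p)
  exact ⟨g, g', ⟨hp.qe, hp.qd, hp.ed⟩, g.2, g'.2⟩

/-- Omega is transitive on nonzero singular vectors. -/
theorem Six.transit (h : Six Q) {e e' : V} (he0 : e ≠ 0) (he0' : e' ≠ 0) (he : Q e = 0) (he' : Q e' = 0) :
    ∃ g : omg Q, app g e = e' :=
  move_one h.good he0 he0' (by rw [he, he'])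

/-- Omega moves a vector and its line to any other vector of the same value up to a square. -/
theorem Six.move (h : Six Q) {e f : V} (p : IsPair Q e f) {v v' : pperp Q e f} (hv : v ≠ 0) (hv' : v' ≠ 0)
    {k : F} (hk : k ≠ 0) (hq : Q (v : V) = k * k * Q (v' : V)) :
    ∃ g : omg Q, app g e = k • e ∧ app g (v : V) = k • (v' : V) := by
  have hi := indep_pperp p v'.2 (fun h0 => hv' (Subtype.ext h0))
  refine move_two h.good (indep_pperp p v.2 (fun h0 => hv (Subtype.ext h0))) ?_
    (by rw [q_smul, p.qe, mul_zero]) (by rw [q_smul, hq])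
    (by rw [b_smul_left, b_smul_right, (mem_pperp.1 v'.2).1, (mem_pperp.1 v.2).1, mul_zero, mul_zero])
    (Or.inl (by rw [h.six]))
  refine LinearIndependent.pair_iff.2 fun s t hst => ?_
  rw [smul_smul, smul_smul] at hst
  obtain ⟨h1, h2⟩ := LinearIndependent.pair_iff.1 hi _ _ hst
  exact ⟨(mul_eq_zero.1 h1).resolve_right hk, (mul_eq_zero.1 h2).resolve_right hk⟩

/-- All vectors of the orthogonal of a pair are sums of multiples of singular ones. -/
theorem Six.sing_span (h : Six Q) {e f : V} (p : IsPair Q e f) (S : AddSubgroup (pperp Q e f))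
    (hS : ∀ s : pperp Q e f, Q (s : V) = 0 → ∀ c : F, c • s ∈ S) : S = ⊤ := by
  refine eq_top_iff.2 fun y _ => ?_
  obtain ⟨g, g', hp⟩ := (h.ty.restrict p).exists_pair (h.nd_perp p)
  obtain ⟨r, hr⟩ : ∃ r, y - polar (restr Q (pperp Q e f)) y g' • g - polar (restr Q (pperp Q e f)) y g • g' = r :=
    ⟨_, rfl⟩
  have hrp := mem_pperp.1 (hr ▸ pperp_part hp y : r ∈ pperp (restr Q (pperp Q e f)) g g')
  have hs : Q ((g + r - restr Q (pperp Q e f) r • g' : pperp Q e f) : V) = 0 := by
    show restr Q (pperp Q e f) (g + r - restr Q (pperp Q e f) r • g') = 0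
    rw [q_sub, q_add, q_smul, b_add_left, b_smul_right, b_smul_right, hp.qe, hp.qd, hp.ed, hrp.1,
      b_comm r g', hrp.2]
    ring
  have e1 : y = (g + r - restr Q (pperp Q e f) r • g') +
      ((polar (restr Q (pperp Q e f)) y g' - 1) • g +
        (polar (restr Q (pperp Q e f)) y g + restr Q (pperp Q e f) r) • g') := by
    rw [← hr]; module
  rw [e1]
  have h1 := hS _ hs 1
  rw [one_smul] at h1
  exact S.add_mem h1 (S.add_mem (hS g hp.qe _) (hS g' hp.qd _))

end Cfsg.Agent.PSU4Index
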