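/-
A set with few points: the duals of the stabilisers in one root group, and their weights.
-/
import Cfsg.Agent.Lib.PSU4Index.Basic
import Mathlib.Dynamics.PeriodicPts.Lemmas
import Mathlib.Algebra.BigOperators.Field
import Mathlib.Algebra.Order.BigOperators.Group.Finset

set_option autoImplicit false

namespace Cfsg.Agent.PSU4Index

open QuadraticMap Module Cfsg.Agent.Orth Cfsg.Agent.OrthDeg Cfsg.Agent.OrthMin

variable {F V : Type*} [Field F] [AddCommGroup V] [Module F V] {Q : QuadraticForm F V}
variable [FiniteDimensional F V] [Fintype F]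
variable {e f : V} {X : Type*} [MulAction (omg Q) X]

/-- The vectors pairing trivially with the root elements which fix a point. -/
noncomputable abbrev dual (h : Six Q) (p : IsPair Q e f) (x : X) : AddSubgroup (pperp Q e f) :=
  aPart h.good p (MulAction.stabilizer (omg Q) x)

variable (h : Six Q) (p : IsPair Q e f)

/-- An element of the line stabiliser acting on the orthogonal of the pair. -/
noncomputable def phi (g : omg Q) (k : F) (hg : app g e = k • e) : pperp Q e f →+ pperp Q e f :=
  AddMonoidHom.mk' (fun a => ⟨k⁻¹ • app g (a : V) - polar Q (k⁻¹ • app g (a : V)) f • e,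
    perp_part_mem p (by
      rw [b_smul_right]
      rcases eq_or_ne k 0 with hk | hk
      · rw [hk, inv_zero, zero_mul]
      · have h1 := b_app g e (a : V)
        rw [hg, b_smul_left, (mem_pperp.1 a.2).1] at h1
        rw [(mul_eq_zero.1 h1).resolve_left hk, mul_zero])⟩) fun a b => Subtype.ext (by
    have hadd : app g ((a : V) + (b : V)) = app g (a : V) + app g (b : V) := map_add g.1.1 _ _
    simp only [Submodule.coe_add, hadd, smul_add, b_add_left]
    module)

theorem phi_coe (g : omg Q) (k : F) (hg : app g e = k • e) (a : pperp Q e f) :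
    ((phi p g k hg a : pperp Q e f) : V) = k⁻¹ • app g (a : V) - polar Q (k⁻¹ • app g (a : V)) f • e := rfl

theorem perp_g (g : omg Q) {k : F} (hk : k ≠ 0) (hg : app g e = k • e) (a : pperp Q e f) :
    polar Q e (k⁻¹ • app g (a : V)) = 0 := by
  have h1 := b_app g e (a : V)
  rw [hg, b_smul_left, (mem_pperp.1 a.2).1] at h1
  rw [b_smul_right, (mul_eq_zero.1 h1).resolve_left hk, mul_zero]

theorem q_phi (g : omg Q) {k : F} (hk : k ≠ 0) (hg : app g e = k • e) (a : pperp Q e f) :
    Q ((phi p g k hg a : pperp Q e f) : V) = k⁻¹ * k⁻¹ * Q (a : V) := by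
  rw [phi_coe, q_sub, q_smul, q_smul, b_smul_right, b_comm _ e, perp_g g hk hg _, p.qe, q_app]
  ring

theorem phi_inj (g : omg Q) {k : F} (hk : k ≠ 0) (hg : app g e = k • e) :
    Function.Injective (phi p g k hg) := by
  rw [injective_iff_map_eq_zero]
  intro a ha
  have h1 : k⁻¹ • app g (a : V) - polar Q (k⁻¹ • app g (a : V)) f • e = 0 := congrArg Subtype.val ha
  obtain ⟨t, ht⟩ : ∃ t, app g (a : V) = app g (t • e) := by
    refine ⟨polar Q (k⁻¹ • app g (a : V)) f, ?_⟩
    have h2 := congrArg (fun z => k • z) (sub_eq_zero.1 h1)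
    simp only [smul_smul, mul_inv_cancel₀ hk, one_smul] at h2
    rw [show app g (polar Q (k⁻¹ • app g (a : V)) f • e) = polar Q (k⁻¹ • app g (a : V)) f • app g e from
      map_smul g.1.1 _ _, hg, smul_smul, mul_comm]
    exact h2
  have h3 : (a : V) = t • e := g.1.1.injective ht
  have h4 := (mem_pperp.1 a.2).2
  rw [h3, b_smul_right, p.de, mul_one] at h4
  exact Subtype.ext (by rw [h3, h4, zero_smul]; rfl)

variable {k : F} (g : omg Q)

theorem phi_mem (hk : k ≠ 0) (hg : app g e = k • e) {x : X} {a : pperp Q e f} (ha : a ∈ dual h p x) :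
    phi p g k hg a ∈ dual h p (g • x) := by
  intro w hw
  obtain ⟨hwe, hwf⟩ := mem_pperp.1 w.2
  have hg' : app g⁻¹ e = k⁻¹ • e := by
    conv_lhs => rw [show e = k⁻¹ • app g e by rw [hg, smul_smul, inv_mul_cancel₀ hk, one_smul]]
    rw [app, map_smul]
    exact congrArg _ (app_inv_app g e)
  have hc := conj_tr h.good p.qe hg' hwe (inv_ne_zero hk)
  obtain ⟨w', hw'⟩ : ∃ w', k⁻¹ • app g⁻¹ (w : V) = w' := ⟨_, rfl⟩
  rw [hw'] at hc
  have hfix : tr Q e w' ∈ MulAction.stabilizer (omg Q) x := by
    rw [← hc.2, inv_inv, MulAction.mem_stabilizer_iff, mul_smul, mul_smul]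
    rw [show tr Q e (w : V) • g • x = g • x from hw, inv_smul_smul]
  have hw0 : (⟨_, perp_part_mem p hc.1⟩ : pperp Q e f) ∈
      kPart h.good p (MulAction.stabilizer (omg Q) x) := by
    rw [mem_kPart]
    show tr Q e (w' - polar Q w' f • e) ∈ _
    rwa [sub_eq_add_neg, ← neg_smul, tr_shift h.good p.qe hc.1]
  have h1 := ha _ hw0
  rw [polar_restr] at h1 ⊢
  convert h1 using 2
  rw [phi_coe, b_sub_left, b_smul_left, b_smul_left, hwe, b_sub_right, b_smul_right, b_comm (a : V) e,
    (mem_pperp.1 a.2).1, ← hw', b_smul_right, ← b_app g (a : V) (app g⁻¹ (w : V)), app_app_inv]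
  ring

theorem card_dual_smul_le [Finite V] (hk : k ≠ 0) (hg : app g e = k • e) (x : X) :
    Nat.card (dual h p x) ≤ Nat.card (dual h p (g • x)) :=
  Nat.card_le_card_of_injective (fun a => (⟨phi p g k hg a, phi_mem h p g hk hg a.2⟩ : dual h p (g • x)))
    fun a b hab => Subtype.ext (phi_inj p g hk hg (congrArg Subtype.val hab))

theorem inv_app_e (hk : k ≠ 0) (hg : app g e = k • e) : app g⁻¹ e = k⁻¹ • e := by
  conv_lhs => rw [show e = k⁻¹ • app g e by rw [hg, smul_smul, inv_mul_cancel₀ hk, one_smul]]
  rw [app, map_smul]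
  exact congrArg _ (app_inv_app g e)

theorem card_dual_smul [Finite V] (hk : k ≠ 0) (hg : app g e = k • e) (x : X) :
    Nat.card (dual h p (g • x)) = Nat.card (dual h p x) := by
  refine le_antisymm ?_ (card_dual_smul_le h p g hk hg x)
  have h1 := card_dual_smul_le h p g⁻¹ (inv_ne_zero hk) (inv_app_e g hk hg) (g • x)
  rwa [inv_smul_smul] at h1

theorem map_dual [Finite V] (hk : k ≠ 0) (hg : app g e = k • e) (x : X) :
    (dual h p x).map (phi p g k hg) = dual h p (g • x) := by
  refine AddSubgroup.eq_of_le_of_card_ge ?_ ?_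
  · rintro _ ⟨a, ha, rfl⟩
    exact phi_mem h p g hk hg ha
  · rw [card_dual_smul h p g hk hg, AddSubgroup.card_map_of_injective (phi_inj p g hk hg)]

/-- Root elements do not change the dual. -/
theorem dual_root {r : omg Q} (hr : r ∈ rootSub h.good p) (x : X) : dual h p (r • x) = dual h p x := by
  refine congrArg (dualK (restr Q (pperp Q e f))) (AddSubgroup.ext fun w => ?_)
  rw [mem_kPart, mem_kPart, MulAction.mem_stabilizer_iff, MulAction.mem_stabilizer_iff, smul_smul,
    root_comm h.good p (tr_mem_root h.good p (mem_pperp.1 w.2).1) hr, mul_smul, smul_left_cancel_iff]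

theorem card_orbit_root (x : X) :
    Nat.card (MulAction.orbit (rootSub h.good p) x) = Nat.card (dual h p x) := by
  rw [← card_root h.good p (MulAction.stabilizer (omg Q) x), Nat.card_coe_set_eq,
    ← MulAction.index_stabilizer (G := rootSub h.good p) x]
  rfl

theorem orbit_fibre {x : X} : MulAction.orbit (rootSub h.good p) x ⊆ {y | dual h p y = dual h p x} := by
  rintro _ ⟨r, rfl⟩
  exact dual_root h p r.2 x

section Sums

variable [Fintype X]
open scoped Classical

/-- The weight of a point. -/
noncomputable def wt (x : X) : ℚ := 1 / Nat.card (dual h p x)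

/-- The total weight of the points whose dual contains a vector. -/
noncomputable def cw (X : Type*) [MulAction (omg Q) X] [Fintype X] (v : pperp Q e f) : ℚ :=
  ∑ x : X, if v ∈ dual h p x then wt h p x else 0

variable [Finite V]

theorem card_dual_pos (x : X) : 0 < Nat.card (dual h p x) := Nat.card_pos

theorem wt_nonneg (x : X) : 0 ≤ wt h p x := by unfold wt; positivity

theorem cw_le_phi (hk : k ≠ 0) (hg : app g e = k • e) (v : pperp Q e f) :
    cw h p X v ≤ cw h p X (phi p g k hg v) := by
  unfold cw
  rw [← Equiv.sum_comp (MulAction.toPerm g) (fun x => if phi p g k hg v ∈ dual h p x then wt h p x else 0)]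
  refine Finset.sum_le_sum fun x _ => ?_
  rw [MulAction.toPerm_apply]
  by_cases hv : v ∈ dual h p x
  · rw [if_pos hv, if_pos (phi_mem h p g hk hg hv), wt, wt, card_dual_smul h p g hk hg]
  · rw [if_neg hv]
    split
    · exact wt_nonneg h p _
    · exact le_rfl

include h in
/-- A line stabiliser element moving v to v'. -/
theorem exists_phi {v v' : pperp Q e f} (hv : v ≠ 0) (hv' : v' ≠ 0) (hk : k ≠ 0)
    (hq : Q (v : V) = k * k * Q (v' : V)) :
    ∃ (g : omg Q) (hg : app g e = k • e), phi p g k hg v = v' := by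
  obtain ⟨g, hg, hgv⟩ := h.move p hv hv' hk hq
  refine ⟨g, hg, Subtype.ext ?_⟩
  rw [phi_coe, hgv, smul_smul, inv_mul_cancel₀ hk, one_smul, b_comm, (mem_pperp.1 v'.2).2, zero_smul, sub_zero]

theorem cw_eq {v v' : pperp Q e f} (hv : v ≠ 0) (hv' : v' ≠ 0) (hk : k ≠ 0)
    (hq : Q (v : V) = k * k * Q (v' : V)) : cw h p X v = cw h p X v' := by
  obtain ⟨g, hg, e1⟩ := exists_phi h p hv hv' hk hq
  obtain ⟨g', hg', e2⟩ := exists_phi h p hv' hv (inv_ne_zero hk) (k := k⁻¹) (by rw [hq]; field_simp)
  refine le_antisymm (e1 ▸ cw_le_phi h p g hk hg v) ?_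
  exact e2 ▸ cw_le_phi h p g' (inv_ne_zero hk) hg' v'

/-- Distinct duals through v are counted once each. -/
theorem card_le_cw (v : pperp Q e f) :
    (((Finset.univ : Finset X).filter fun x => v ∈ dual h p x).image (dual h p)).card ≤ cw h p X v := by
  unfold cw
  rw [← Finset.sum_filter, ← Finset.sum_fiberwise_of_maps_to
    (t := ((Finset.univ : Finset X).filter fun x => v ∈ dual h p x).image (dual h p)) (g := dual h p)
    (fun x hx => Finset.mem_image_of_mem _ hx), Finset.cast_card]
  refine Finset.sum_le_sum fun A hA => ?_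
  obtain ⟨x, hx, rfl⟩ := Finset.mem_image.1 hA
  rw [Finset.filter_filter]
  have hfib : Nat.card (dual h p x) ≤
      ((Finset.univ : Finset X).filter fun y => v ∈ dual h p y ∧ dual h p y = dual h p x).card := by
    rw [← card_orbit_root, Nat.card_coe_set_eq, Set.ncard_eq_toFinset_card']
    refine Finset.card_le_card fun y hy => ?_
    rw [Set.mem_toFinset] at hy
    have h1 : dual h p y = dual h p x := orbit_fibre h p hy
    exact Finset.mem_filter.2 ⟨Finset.mem_univ _, h1 ▸ (Finset.mem_filter.1 hx).2, h1⟩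
  have hpos : (0 : ℚ) < Nat.card (dual h p x) := by exact_mod_cast card_dual_pos h p x
  rw [Finset.sum_congr rfl (g := fun _ => wt h p x) (fun y hy => by rw [wt, wt, (Finset.mem_filter.1 hy).2.2]),
    Finset.sum_const, nsmul_eq_mul, wt, mul_one_div, le_div_iff₀ hpos, one_mul]
  exact_mod_cast hfib

/-- Double counting. -/
theorem sum_cw (C : Finset (pperp Q e f)) :
    ∑ v ∈ C, cw h p X v = ∑ x : X, ((C.filter fun v => v ∈ dual h p x).card : ℚ) * wt h p x := by
  unfold cw
  rw [Finset.sum_comm]
  refine Finset.sum_congr rfl fun x _ => ?_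
  rw [← Finset.sum_filter, Finset.sum_const, nsmul_eq_mul]

theorem sum_wt_le (C : Finset (pperp Q e f)) (S : Finset X) {ρ : ℚ}
    (hρ : ∀ x ∈ S, ((C.filter fun v => v ∈ dual h p x).card : ℚ) ≤ ρ * Nat.card (dual h p x)) :
    ∑ x ∈ S, ((C.filter fun v => v ∈ dual h p x).card : ℚ) * wt h p x ≤ ρ * S.card := by
  refine le_trans (Finset.sum_le_sum fun x hx => ?_) (le_of_eq (by rw [Finset.sum_const, nsmul_eq_mul, mul_comm]))
  have hpos : (0 : ℚ) < Nat.card (dual h p x) := by exact_mod_cast card_dual_pos h p x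
  rw [wt, mul_one_div, div_le_iff₀ hpos]
  exact hρ x hx

/-- A small weight makes the dual stable under the unipotent elements fixing v. -/
theorem stab_dual {r : ℕ} (hr : r.Prime) (hrF : (r : F) = 0) {v : pperp Q e f} (hw : cw h p X v < r) {x : X}
    (hx : v ∈ dual h p x) : Stab (restr Q (pperp Q e f)) (dual h p x) v := by
  intro u y a hu huv hyv huy ha
  simp only [polar_restr, restr_apply] at hu huv hyv huy
  obtain ⟨hue, huf⟩ := mem_pperp.1 u.2
  obtain ⟨hye, hyf⟩ := mem_pperp.1 y.2
  obtain ⟨t, ht⟩ : ∃ t, tr Q (u : V) (y : V) = t := ⟨_, rfl⟩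
  have hte : app t e = (1 : F) • e := by rw [← ht, one_smul, tr_fix h.good hu huy hue hye]
  have htr : t ^ r = 1 := by
    have key : ∀ n : ℕ, t ^ n = tr Q (u : V) ((n : F) • (y : V)) := fun n => by
      induction n with
      | zero => rw [pow_zero, Nat.cast_zero, zero_smul, tr_zero h.good hu]
      | succ n ih =>
        rw [pow_succ, ih, ← ht, ← tr_add h.good hu (by rw [b_smul_right, huy, mul_zero]) huy, Nat.cast_succ,
          add_smul, one_smul]
    rw [key, hrF, zero_smul, tr_zero h.good hu]
  have hphi : ∀ b : pperp Q e f, ((phi p t 1 hte b : pperp Q e f) : V) = app t (b : V) := fun b => by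
    rw [phi_coe, inv_one, one_smul]
    rw [← ht]
    have h1 : polar Q (app (tr Q (u : V) (y : V)) (b : V)) f = 0 := by
      have h3 := b_app (tr Q (u : V) (y : V)) (b : V) f
      rwa [tr_fix h.good hu huy huf hyf, b_comm (b : V) f, (mem_pperp.1 b.2).2] at h3
    rw [h1, zero_smul, sub_zero]
  have hv : phi p t 1 hte v = v := Subtype.ext (by
    rw [hphi, ← ht, tr_fix h.good hu huy (by rw [b_comm]; exact huv) (by rw [b_comm]; exact hyv)])
  let σ : AddSubgroup (pperp Q e f) → AddSubgroup (pperp Q e f) := fun A => A.map (phi p t 1 hte)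
  have hit : ∀ n : ℕ, σ^[n] (dual h p x) = dual h p (t ^ n • x) := fun n => by
    induction n with
    | zero => rw [pow_zero, one_smul]; rfl
    | succ n ih =>
      rw [Function.iterate_succ_apply', ih, pow_succ', mul_smul]
      exact map_dual h p t one_ne_zero hte _
  have hper : Function.IsPeriodicPt σ r (dual h p x) := by
    show σ^[r] (dual h p x) = dual h p x
    rw [hit, htr, one_smul]
  have hin : ∀ n : ℕ, v ∈ σ^[n] (dual h p x) := fun n => by
    induction n with
    | zero => exact hx
    | succ n ih => rw [Function.iterate_succ_apply']; exact ⟨v, ih, hv⟩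
  have hfix : σ (dual h p x) = dual h p x := by
    rcases hr.eq_one_or_self_of_dvd _ hper.minimalPeriod_dvd with h1 | h1
    · exact Function.minimalPeriod_eq_one_iff_isFixedPt.1 h1
    · exfalso
      have hsub : (Finset.range r).image (fun n => σ^[n] (dual h p x)) ⊆
          ((Finset.univ : Finset X).filter fun z => v ∈ dual h p z).image (dual h p) := by
        intro A hA
        obtain ⟨n, -, rfl⟩ := Finset.mem_image.1 hA
        exact Finset.mem_image.2 ⟨t ^ n • x, Finset.mem_filter.2 ⟨Finset.mem_univ _, hit n ▸ hin n⟩, (hit n).symm⟩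
      have hc := Finset.card_le_card hsub
      rw [Finset.card_image_of_injOn, Finset.card_range] at hc
      · have h2 := (card_le_cw h p v (X := X))
        have h3 : (r : ℚ) ≤ cw h p X v := le_trans (by exact_mod_cast hc) h2
        linarith
      · intro i hi j hj hij
        exact Function.iterate_injOn_Iio_minimalPeriod (by simpa [h1] using hi) (by simpa [h1] using hj) hij
  have h1 : phi p t 1 hte a ∈ dual h p x := by
    rw [← hfix]
    exact ⟨a, ha, rfl⟩
  have h2 := (dual h p x).sub_mem h1 ha
  convert h2 using 1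
  refine Subtype.ext ?_
  rw [Submodule.coe_sub, Submodule.coe_sub, Submodule.coe_smul, Submodule.coe_smul, hphi, ← ht,
    tr_apply h.good hu huy]
  simp only [polar_restr, restr_apply]
  module

end Sums

end Cfsg.Agent.PSU4Index
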