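/-
On a set with fewer points than there are singular points every dual is a line or everything.
-/
import Cfsg.Agent.Lib.PSU4Index.Weights

set_option autoImplicit false

namespace Cfsg.Agent.PSU4Index

open QuadraticMap Module Cfsg.Agent.Orth Cfsg.Agent.OrthDeg Cfsg.Agent.OrthMin
open scoped Classical

variable {F V : Type*} [Field F] [AddCommGroup V] [Module F V] {Q : QuadraticForm F V}
variable [FiniteDimensional F V] [Fintype F]
variable {e f : V} {X : Type*} [MulAction (omg Q) X] [Fintype X] [Finite V]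
variable (h : Six Q) (p : IsPair Q e f)

/-- The vectors with values in the square class of γ. -/
noncomputable def cls (Q : QuadraticForm F V) (e f : V) (γ : F) : Finset (pperp Q e f) :=
  haveI := Fintype.ofFinite (pperp Q e f)
  Finset.univ.filter fun v => ∃ k : F, k ≠ 0 ∧ Q (v : V) = k * k * γ

omit [Fintype X] [MulAction (omg Q) X] in
theorem mem_cls {γ : F} {v : pperp Q e f} :
    v ∈ cls Q e f γ ↔ ∃ k : F, k ≠ 0 ∧ Q (v : V) = k * k * γ := by
  simp [cls]

theorem ne_zero_of_cls {γ : F} (hγ : γ ≠ 0) {v : pperp Q e f} (hv : v ∈ cls Q e f γ) : Q (v : V) ≠ 0 := by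
  obtain ⟨k, hk, hk'⟩ := mem_cls.1 hv
  rw [hk']
  exact mul_ne_zero (mul_ne_zero hk hk) hγ

include h p

/-- Half of the nonzero scalars are squares up to a factor, in characteristic two all of them. -/
theorem card_cls {γ : F} (hγ : γ ≠ 0) :
    (Nat.card F - 1) * (Nat.card F ^ 3 + Nat.card F) ≤ 2 * (cls Q e f γ).card ∧
      ((2 : F) = 0 → (Nat.card F - 1) * (Nat.card F ^ 3 + Nat.card F) ≤ (cls Q e f γ).card) := by
  haveI := Fintype.ofFinite (pperp Q e f)
  obtain ⟨S, hS⟩ : ∃ S : Finset F, ((Finset.univ.filter fun k : F => k ≠ 0).image fun k => k * k * γ) = S := ⟨_, rfl⟩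
  have hlev : S.card * (Nat.card F ^ 3 + Nat.card F) ≤ (cls Q e f γ).card := by
    rw [Finset.card_eq_sum_card_fiberwise (f := fun v : pperp Q e f => Q (v : V)) (t := S) (s := cls Q e f γ)]
    · rw [← smul_eq_mul, ← Finset.sum_const]
      refine Finset.sum_le_sum fun s hs => ?_
      rw [← hS] at hs
      obtain ⟨k, hk, rfl⟩ := Finset.mem_image.1 hs
      refine (h.level_ge p (mul_ne_zero (mul_ne_zero (Finset.mem_filter.1 hk).2 (Finset.mem_filter.1 hk).2) hγ)).trans ?_
      rw [Nat.card_eq_fintype_card, Fintype.card_subtype]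
      refine Finset.card_le_card fun v hv => ?_
      have hv' := (Finset.mem_filter.1 hv).2
      rw [restr_apply] at hv'
      exact Finset.mem_filter.2 ⟨mem_cls.2 ⟨k, (Finset.mem_filter.1 hk).2, hv'⟩, hv'⟩
    · intro v hv
      obtain ⟨k, hk, hk'⟩ := mem_cls.1 hv
      rw [← hS]
      exact Finset.mem_image.2 ⟨k, Finset.mem_filter.2 ⟨Finset.mem_univ _, hk⟩, hk'.symm⟩
  have hne : (Finset.univ.filter fun k : F => k ≠ 0).card = Nat.card F - 1 := by
    rw [Finset.filter_ne', Finset.card_erase_of_mem (Finset.mem_univ _), Finset.card_univ, Nat.card_eq_fintype_card]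
  refine ⟨?_, fun h2 => ?_⟩
  · have h1 : (Finset.univ.filter fun k : F => k ≠ 0).card ≤ 2 * S.card := by
      rw [← hS]
      refine Finset.card_le_mul_card_image _ 2 fun s hs => ?_
      obtain ⟨k, -, rfl⟩ := Finset.mem_image.1 hs
      refine (Finset.card_le_card (t := {k, -k}) fun x hx => ?_).trans Finset.card_le_two
      have hx' := mul_right_cancel₀ hγ (Finset.mem_filter.1 hx).2
      rcases mul_self_eq_mul_self_iff.1 hx' with h' | h' <;> simp [h']
    rw [← hne]
    calc _ ≤ 2 * S.card * (Nat.card F ^ 3 + Nat.card F) := Nat.mul_le_mul_right _ h1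
      _ = 2 * (S.card * (Nat.card F ^ 3 + Nat.card F)) := by ring
      _ ≤ _ := Nat.mul_le_mul_left _ hlev
  · have h1 : S.card = Nat.card F - 1 := by
      rw [← hS, Finset.card_image_of_injective, hne]
      intro a b hab
      have := mul_right_cancel₀ hγ hab
      rcases mul_self_eq_mul_self_iff.1 this with h' | h'
      · exact h'
      · rw [h', neg_eq_iff_add_eq_zero, ← two_mul, h2, zero_mul]
    rwa [h1] at hlev

/-- The zeros over two elements. -/
theorem zeros_two (hq : Nat.card F = 2) (γ : F) (hγ : γ ≠ 0) :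
    (cls Q e f γ).card = 10 := by
  haveI := Fintype.ofFinite (pperp Q e f)
  have hc : Fintype.card (pperp Q e f) = 16 := by
    rw [← Nat.card_eq_fintype_card, card_submodule, h.four p, hq]; rfl
  have hz := h.card_sing p
  rw [hq, Nat.card_eq_fintype_card, Fintype.card_subtype] at hz
  have e1 : cls Q e f γ = Finset.univ.filter fun v : pperp Q e f => ¬ restr Q (pperp Q e f) v = 0 := by
    ext v
    rw [mem_cls, Finset.mem_filter]
    simp only [Finset.mem_univ, true_and, restr_apply]
    refine ⟨fun ⟨k, hk, hk'⟩ => hk' ▸ mul_ne_zero (mul_ne_zero hk hk) hγ, fun hv => ⟨1, one_ne_zero, ?_⟩⟩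
    rw [one_of_two hq hv, one_of_two hq hγ, one_mul, one_mul]
  have hsum := Finset.card_filter_add_card_filter_not (s := (Finset.univ : Finset (pperp Q e f)))
    fun v => restr Q (pperp Q e f) v = 0
  rw [← e1, hz, Finset.card_univ, hc] at hsum
  omega

/-- How much of a subgroup can have values in one square class. -/
theorem ratio {γ : F} (hγ : γ ≠ 0) (A : AddSubgroup (pperp Q e f)) :
    ((cls Q e f γ).filter fun v => v ∈ A).card ≤ Nat.card A ∧
      (Nat.card F = 3 → 3 * ((cls Q e f γ).filter fun v => v ∈ A).card ≤ 2 * Nat.card A) ∧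
      (Nat.card F = 2 → 4 * ((cls Q e f γ).filter fun v => v ∈ A).card ≤ 3 * Nat.card A) := by
  haveI := Fintype.ofFinite (pperp Q e f)
  obtain ⟨D, hD⟩ : ∃ D, (Finset.univ.filter fun v : pperp Q e f => v ∈ A) = D := ⟨_, rfl⟩
  have hDc : D.card = Nat.card A := by
    rw [← hD, Nat.card_eq_fintype_card, Fintype.card_subtype]
  have hsub : (cls Q e f γ).filter (fun v => v ∈ A) ⊆ D := fun v hv => by
    rw [← hD]; exact Finset.mem_filter.2 ⟨Finset.mem_univ _, (Finset.mem_filter.1 hv).2⟩
  refine ⟨hDc ▸ Finset.card_le_card hsub, fun hq => ?_, fun hq => ?_⟩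
  · obtain ⟨E, hE⟩ : ∃ E, (cls Q e f γ).filter (fun v => v ∈ A) = E := ⟨_, rfl⟩
    rw [hE] at hsub ⊢
    rcases E.eq_empty_or_nonempty with h0 | ⟨u, hu⟩
    · rw [h0, Finset.card_empty]; omega
    have hval : ∀ w ∈ E, Q (w : V) = γ := fun w hw => by
      rw [← hE] at hw
      obtain ⟨k, hk, hk'⟩ := mem_cls.1 (Finset.mem_filter.1 hw).1
      have h3 : k * k = 1 := by
        have := FiniteField.pow_card_sub_one_eq_one k hk
        rwa [← Nat.card_eq_fintype_card, hq, pow_two] at this
      rw [hk', h3, one_mul]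
    have huA : u ∈ A := by
      have := hsub hu
      rw [← hD] at this
      exact (Finset.mem_filter.1 this).2
    have hshift : ∀ c : ℕ, ∑ a ∈ D, (if a + c • u ∈ E then 1 else 0) = E.card := fun c => by
      rw [← Finset.card_filter]
      refine Finset.card_bij (fun a _ => a + c • u) (fun a ha => (Finset.mem_filter.1 ha).2)
        (fun a _ b _ hab => add_right_cancel hab) fun b hb => ⟨b - c • u, ?_, sub_add_cancel b _⟩
      have hbA := hsub hb
      rw [← hD] at hbA ⊢
      refine Finset.mem_filter.2 ⟨Finset.mem_filter.2 ⟨Finset.mem_univ _,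
        A.sub_mem (Finset.mem_filter.1 hbA).2 (A.nsmul_mem huA c)⟩, by rwa [sub_add_cancel]⟩
    have hle : ∀ a ∈ D, (if a + 0 • u ∈ E then 1 else 0) + (if a + 1 • u ∈ E then 1 else 0) +
        (if a + 2 • u ∈ E then 1 else 0) ≤ 2 := by
      intro a _
      by_cases h0 : a + 0 • u ∈ E
      · by_cases h1 : a + 1 • u ∈ E
        · by_cases h2 : a + 2 • u ∈ E
          · exfalso
            rw [zero_nsmul, add_zero] at h0
            rw [one_nsmul] at h1
            have e0 := hval _ h0
            have e1 := hval _ h1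
            have e2 := hval _ h2
            have hu' := hval _ hu
            rw [two_nsmul] at e2
            simp only [Submodule.coe_add] at e1 e2
            rw [q_add, e0, hu'] at e1
            rw [q_add, e0, q_add, hu', b_add_right, b_self, hu'] at e2
            have h3 : (3 : F) = 0 := by
              have := FiniteField.cast_card_eq_zero F
              rw [← Nat.card_eq_fintype_card, hq] at this
              exact_mod_cast this
            exact hγ (by linear_combination γ * h3 - e2 + 2 * e1)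
          · rw [if_neg h2]; split_ifs <;> omega
        · rw [if_neg h1]; split_ifs <;> omega
      · rw [if_neg h0]; split_ifs <;> omega
    have := Finset.sum_le_sum hle
    rw [Finset.sum_add_distrib, Finset.sum_add_distrib, hshift, hshift, hshift, Finset.sum_const, smul_eq_mul] at this
    omega
  · have h0 : ((cls Q e f γ).filter fun v => v ∈ A).card + 1 ≤ Nat.card A := by
      rw [← hDc]
      refine Finset.card_lt_card (Finset.ssubset_iff_subset_ne.2 ⟨hsub, fun h' => ?_⟩)
      have h0 : (0 : pperp Q e f) ∈ D := by rw [← hD]; exact Finset.mem_filter.2 ⟨Finset.mem_univ _, A.zero_mem⟩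
      rw [← h'] at h0
      exact ne_zero_of_cls hγ (Finset.mem_filter.1 h0).1 (map_zero _)
    have hc : Fintype.card (pperp Q e f) = 16 := by
      rw [← Nat.card_eq_fintype_card, card_submodule, h.four p, hq]; rfl
    have hdvd : Nat.card A ∣ 2 ^ 4 := by
      have := AddSubgroup.card_addSubgroup_dvd_card A
      rwa [Nat.card_eq_fintype_card (α := pperp Q e f), hc] at this
    obtain ⟨j, hj, hjA⟩ := (Nat.dvd_prime_pow Nat.prime_two).1 hdvd
    rcases lt_or_ge j 3 with hj3 | hj3
    · interval_cases j <;> simp only [hjA] at h0 ⊢ <;> omega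
    rcases eq_or_lt_of_le hj3 with rfl | hj4
    · -- three independent vectors of value one are impossible
      by_contra hlt
      rw [hjA] at hlt h0
      have hall : ∀ a ∈ A, a ≠ 0 → Q ((a : pperp Q e f) : V) = 1 := by
        intro a ha ha0
        have heq : (cls Q e f γ).filter (fun v => v ∈ A) = D.erase 0 := by
          refine Finset.eq_of_subset_of_card_le (fun v hv => Finset.mem_erase.2 ⟨fun h' => ?_, hsub hv⟩) ?_
          · exact ne_zero_of_cls hγ (Finset.mem_filter.1 hv).1 (by rw [h']; exact map_zero _)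
          · rw [Finset.card_erase_of_mem (by rw [← hD]; exact Finset.mem_filter.2 ⟨Finset.mem_univ _, A.zero_mem⟩),
              hDc, hjA]
            omega
        have ha' : a ∈ (cls Q e f γ).filter fun v => v ∈ A := by
          rw [heq, ← hD]; exact Finset.mem_erase.2 ⟨ha0, Finset.mem_filter.2 ⟨Finset.mem_univ _, ha⟩⟩
        exact one_of_two hq (ne_zero_of_cls hγ (Finset.mem_filter.1 ha').1)
      have hB : ∀ a ∈ A, ∀ b ∈ A, a ≠ 0 → b ≠ 0 → a + b ≠ 0 → polar Q ((a : pperp Q e f) : V) (b : V) = 1 := by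
        intro a ha b hb ha0 hb0 hab
        have h1 := hall _ (A.add_mem ha hb) hab
        rw [Submodule.coe_add, q_add, hall a ha ha0, hall b hb hb0] at h1
        have h2 : (2 : F) = 0 := by
          by_contra hne
          have := one_of_two hq hne
          rw [← one_add_one_eq_two, add_eq_right] at this
          exact one_ne_zero this
        linear_combination h1 - h2
      obtain ⟨a, haD, ha0⟩ := Finset.exists_mem_ne (s := D) (by rw [hDc, hjA]; norm_num) 0
      have h8 : D.card = 8 := by rw [hDc, hjA]; rfl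
      obtain ⟨b, hbD, hb⟩ := Finset.exists_mem_notMem_of_card_lt_card (s := ({0, a} : Finset _)) (t := D)
        (lt_of_le_of_lt Finset.card_le_two (by omega))
      obtain ⟨c, hcD, hcn⟩ := Finset.exists_mem_notMem_of_card_lt_card (s := ({0, a, b, a + b} : Finset _)) (t := D)
        (lt_of_le_of_lt Finset.card_le_four (by omega))
      rw [← hD] at haD hbD hcD
      simp only [Finset.mem_filter, Finset.mem_univ, true_and] at haD hbD hcD
      simp only [Finset.mem_insert, Finset.mem_singleton, not_or] at hb hcn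
      have hneg : ∀ x y : pperp Q e f, x + y = 0 → x = y := fun x y hxy => by
        have h2 : (2 : F) = 0 := by
          by_contra hne
          have := one_of_two hq hne
          rw [← one_add_one_eq_two, add_eq_right] at this
          exact one_ne_zero this
        have hyy : y + y = 0 := by rw [← two_smul F y, h2, zero_smul]
        exact add_right_cancel (hxy.trans hyy.symm)
      have h1 := hB a haD b hbD ha0 hb.1 fun h' => hb.2 (hneg _ _ h').symm
      have h2 := hB a haD c hcD ha0 hcn.1 fun h' => hcn.2.1 (hneg _ _ h').symm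
      have h3 := hB a haD (b + c) (A.add_mem hbD hcD) ha0
        (fun h' => hcn.2.2.1 (hneg _ _ h').symm) fun h' => hcn.2.2.2 (by
          rw [← add_assoc] at h'
          exact (hneg _ _ h').symm)
      rw [Submodule.coe_add, b_add_right, h1, h2, add_eq_right] at h3
      exact one_ne_zero h3
    · have : j = 4 := by omega
      subst this
      have := Finset.card_le_card (Finset.filter_subset (fun v => v ∈ A) (cls Q e f γ))
      rw [zeros_two h p hq γ hγ] at this
      rw [hjA]
      omega

variable (hi : Fintype.card X ≤ Nat.card F ^ 4 + Nat.card F ^ 3 + Nat.card F)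
include hi

/-- The weight of a non-singular vector is below the characteristic. -/
theorem cw_lt {v : pperp Q e f} (hv : Q (v : V) ≠ 0) :
    ∃ r : ℕ, r.Prime ∧ (r : F) = 0 ∧ cw h p X v < r := by
  obtain ⟨r, hchar⟩ := CharP.exists F
  obtain ⟨n, hr, hn⟩ := FiniteField.card F r
  refine ⟨r, hr, CharP.cast_eq_zero F r, ?_⟩
  have hv0 : v ≠ 0 := fun h0 => hv (by rw [h0]; exact map_zero _)
  obtain ⟨C, hC⟩ : ∃ C, cls Q e f (Q (v : V)) = C := ⟨_, rfl⟩
  have huni : ∀ u ∈ C, cw h p X u = cw h p X v := by
    intro u hu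
    rw [← hC] at hu
    obtain ⟨k, hk, hk'⟩ := mem_cls.1 hu
    exact cw_eq h p (fun h0 => ne_zero_of_cls hv hu (by rw [h0]; exact map_zero _)) hv0 hk hk'
  have hsum := sum_cw h p C (X := X)
  rw [Finset.sum_congr rfl huni, Finset.sum_const, nsmul_eq_mul] at hsum
  have bound : ∀ ρ : ℚ, 0 ≤ ρ → (∀ A : AddSubgroup (pperp Q e f),
      ((C.filter fun u => u ∈ A).card : ℚ) ≤ ρ * Nat.card A) →
      (C.card : ℚ) * cw h p X v ≤ ρ * ((Nat.card F : ℚ) ^ 4 + (Nat.card F : ℚ) ^ 3 + Nat.card F) := by
    intro ρ hρ0 hρ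
    rw [hsum]
    refine (sum_wt_le h p C Finset.univ fun x _ => hρ (dual h p x)).trans (mul_le_mul_of_nonneg_left ?_ hρ0)
    rw [Finset.card_univ]
    exact_mod_cast hi
  obtain ⟨hc1, hc2⟩ := card_cls h p hv
  rw [hC] at hc1 hc2
  have hq : (2 : ℕ) ≤ Nat.card F := Finite.one_lt_card
  have hcard : Nat.card F = r ^ (n : ℕ) := by rw [Nat.card_eq_fintype_card, hn]
  rcases Nat.lt_or_ge (Nat.card F) 4 with hlt | hge
  · interval_cases hqv : Nat.card F
    · have hr2 : r = 2 := (Nat.prime_dvd_prime_iff_eq hr Nat.prime_two).1 (hcard ▸ dvd_pow_self r n.ne_zero)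
      have h10 : C.card = 10 := by rw [← hC]; exact zeros_two h p hqv _ hv
      have hb := bound (3 / 4) (by norm_num) fun A => by
        have := ((ratio h p hv A).2.2 hqv)
        rw [hC] at this
        have : (4 : ℚ) * (C.filter fun u => u ∈ A).card ≤ 3 * Nat.card A := by exact_mod_cast this
        linarith
      rw [h10] at hb
      norm_num at hb
      rw [hr2]; push_cast; linarith
    · have hr3 : r = 3 := (Nat.prime_dvd_prime_iff_eq hr Nat.prime_three).1 (hcard ▸ dvd_pow_self r n.ne_zero)
      have hb := bound (2 / 3) (by norm_num) fun A => by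
        have := ((ratio h p hv A).2.1 hqv)
        rw [hC] at this
        have : (3 : ℚ) * (C.filter fun u => u ∈ A).card ≤ 2 * Nat.card A := by exact_mod_cast this
        linarith
      have h30 : (30 : ℚ) ≤ C.card := by exact_mod_cast (by omega : 30 ≤ C.card)
      rw [hr3]; push_cast
      norm_num at hb
      nlinarith
  · have hb := bound 1 zero_le_one fun A => by
      have := (ratio h p hv A).1
      rw [hC] at this
      rw [one_mul]
      exact_mod_cast this
    rw [one_mul] at hb
    obtain ⟨Q1, hQ1⟩ : ∃ t : ℚ, (Nat.card F : ℚ) = t := ⟨_, rfl⟩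
    rw [hQ1] at hb
    have h4 : (4 : ℚ) ≤ Q1 := by rw [← hQ1]; exact_mod_cast hge
    have hsub : ((Nat.card F - 1 : ℕ) : ℚ) = Q1 - 1 := by
      rw [Nat.cast_sub (by omega), hQ1, Nat.cast_one]
    rcases hr.eq_two_or_odd' with hr2 | hr2
    · have h20 : (2 : F) = 0 := by
        have := CharP.cast_eq_zero F r
        rw [hr2] at this
        exact_mod_cast this
      have hC' : (Q1 - 1) * (Q1 ^ 3 + Q1) ≤ C.card := by
        rw [← hsub, ← hQ1]; exact_mod_cast hc2 h20
      rw [hr2]; push_cast
      by_contra hcon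
      push Not at hcon
      have h7 : 0 ≤ Q1 ^ 3 * (Q1 - 4) := mul_nonneg (by positivity) (by linarith)
      nlinarith [mul_le_mul hC' hcon (by norm_num) (by positivity), mul_le_mul h4 h4 (by norm_num) (by linarith)]
    · have hC' : (Q1 - 1) * (Q1 ^ 3 + Q1) ≤ 2 * C.card := by
        rw [← hsub, ← hQ1]; exact_mod_cast hc1
      have h3 : (3 : ℚ) ≤ r := by exact_mod_cast (hr2.elim fun k hk => by have := hr.two_le; omega : 3 ≤ r)
      have h5 : (5 : ℚ) ≤ Q1 := by
        rw [← hQ1]
        have hodd : Odd (Nat.card F) := hcard ▸ hr2.pow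
        obtain ⟨k, hk⟩ := hodd
        exact_mod_cast (by omega : 5 ≤ Nat.card F)
      refine lt_of_lt_of_le ?_ h3
      by_contra hcon
      push Not at hcon
      have h7 : 0 ≤ Q1 ^ 3 * (Q1 - 5) := mul_nonneg (by positivity) (by linarith)
      nlinarith [mul_le_mul hC' hcon (by norm_num) (by positivity), mul_le_mul h5 h5 (by norm_num) (by linarith)]

theorem stab_all {v : pperp Q e f} (hv : restr Q (pperp Q e f) v ≠ 0) {x : X} (hx : v ∈ dual h p x) :
    Stab (restr Q (pperp Q e f)) (dual h p x) v := by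
  obtain ⟨r, hr, hrF, hlt⟩ := cw_lt h p hi (v := v) hv
  exact stab_dual h p hr hrF hlt hx

/-- Every dual is in a line or is everything. -/
theorem dichotomy (x : X) :
    (∃ v : pperp Q e f, ∀ a ∈ dual h p x, a ∈ Submodule.span F {v}) ∨ dual h p x = ⊤ := by
  haveI := Fintype.ofFinite (pperp Q e f)
  have hns := h.noPlane p
  have hY := h.nd_perp p
  have h4 := h.four p
  by_cases hsing : ∀ a ∈ dual h p x, restr Q (pperp Q e f) a = 0
  · left
    by_cases h0 : ∀ a ∈ dual h p x, a = 0
    · exact ⟨0, fun a ha => by rw [h0 a ha]; exact Submodule.zero_mem _⟩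
    push Not at h0
    obtain ⟨a, ha, ha0⟩ := h0
    refine ⟨a, fun b hb => hns a b ha0 (hsing a ha) (hsing b hb) ?_⟩
    have := hsing _ ((dual h p x).add_mem ha hb)
    rwa [q_add, hsing a ha, hsing b hb, zero_add, zero_add] at this
  push Not at hsing
  obtain ⟨v, hvA, hv⟩ := hsing
  have hst := stab_all h p hi hv hvA
  by_cases hline : ∀ a ∈ dual h p x, a ∈ Submodule.span F {v}
  · exact Or.inl ⟨v, hline⟩
  push Not at hline
  obtain ⟨a, ha, hav⟩ := hline
  right
  -- an ordinary element off the line
  suffices hgood : ∃ a ∈ dual h p x, a ∉ Submodule.span F {v} ∧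
      ¬ (Nat.card F = 2 ∧ restr Q (pperp Q e f) a = 0 ∧ polar (restr Q (pperp Q e f)) a v ≠ 0) by
    obtain ⟨a, ha, hav, hex⟩ := hgood
    exact top_of_orth hY h4 hns hv hvA (fun w hw hwA => stab_all h p hi hw hwA)
      (orth_le hY h4 hns hv hst hvA ha hav hex)
  by_contra hcon
  push Not at hcon
  have hq : Nat.card F = 2 := (hcon a ha hav).1
  have hv0 : v ≠ 0 := fun h0 => hv (by rw [h0]; exact map_zero _)
  -- the dual has four elements or more and one non-singular vector
  have honly : ∀ c ∈ dual h p x, restr Q (pperp Q e f) c ≠ 0 → c = v := by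
    intro c hc hc0
    by_cases hcv : c ∈ Submodule.span F {v}
    · obtain ⟨t, rfl⟩ := Submodule.mem_span_singleton.1 hcv
      rw [one_of_two hq (s := t) (fun h0 => hc0 (by rw [h0, zero_smul, map_zero])), one_smul]
    · exact absurd (hcon c hc hcv).2.1 hc0
  have hfour : 4 ≤ Nat.card (dual h p x) := by
    have hsub : ({0, v, a, a + v} : Finset (pperp Q e f)) ⊆ Finset.univ.filter fun w => w ∈ dual h p x := by
      intro w hw
      simp only [Finset.mem_insert, Finset.mem_singleton] at hw
      refine Finset.mem_filter.2 ⟨Finset.mem_univ _, ?_⟩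
      rcases hw with rfl | rfl | rfl | rfl
      exacts [(dual h p x).zero_mem, hvA, ha, (dual h p x).add_mem ha hvA]
    have hne1 : a ≠ 0 := fun h0 => hav (by rw [h0]; exact Submodule.zero_mem _)
    have hne2 : a ≠ v := fun h0 => hav (by rw [h0]; exact Submodule.mem_span_singleton_self v)
    have hne3 : a + v ≠ 0 := fun h0 => hav (by
      rw [eq_neg_of_add_eq_zero_left h0]; exact Submodule.neg_mem _ (Submodule.mem_span_singleton_self v))
    have hcard : ({0, v, a, a + v} : Finset (pperp Q e f)).card = 4 := by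
      simp [hv0, hv0.symm, hne1, Ne.symm hne1, Ne.symm hne2, hne3, Ne.symm hne3]
    have := Finset.card_le_card hsub
    rw [hcard] at this
    rwa [Nat.card_eq_fintype_card, Fintype.card_subtype]
  obtain ⟨T, hT⟩ : ∃ T : pperp Q e f → Finset X, ∀ u, T u = Finset.univ.filter fun y =>
      u ∈ dual h p y ∧ ∀ c ∈ dual h p y, restr Q (pperp Q e f) c ≠ 0 → c = u := ⟨_, fun _ => rfl⟩
  have hbig : ∀ u ∈ cls Q e f (Q (v : V)), 4 ≤ (T u).card := by
    intro u hu
    obtain ⟨k, hk, hk'⟩ := mem_cls.1 hu
    have hu0 : u ≠ 0 := fun h0 => ne_zero_of_cls hv hu (by rw [h0]; exact map_zero _)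
    obtain ⟨g, hg, hgv⟩ := exists_phi h p hv0 hu0 (inv_ne_zero hk) (k := k⁻¹) (by rw [hk']; field_simp)
    refine le_trans (hfour.trans_eq (card_dual_smul h p g (inv_ne_zero hk) hg x).symm) ?_
    rw [← card_orbit_root, Nat.card_coe_set_eq, Set.ncard_eq_toFinset_card']
    refine Finset.card_le_card fun y hy => ?_
    rw [Set.mem_toFinset] at hy
    rw [hT, Finset.mem_filter, show dual h p y = dual h p (g • x) from orbit_fibre h p hy,
      ← map_dual h p g (inv_ne_zero hk) hg]
    refine ⟨Finset.mem_univ _, ⟨v, hvA, hgv⟩, ?_⟩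
    rintro _ ⟨c, hc, rfl⟩ hc0
    rw [← hgv, honly c hc]
    intro h0
    rw [restr_apply] at h0
    apply hc0
    rw [restr_apply, q_phi p g (inv_ne_zero hk) hg, h0, mul_zero]
  have hdis : Set.PairwiseDisjoint (↑(cls Q e f (Q (v : V))) : Set (pperp Q e f)) T := by
    intro u hu w hw huw
    rw [Function.onFun, Finset.disjoint_left]
    intro y hy hy'
    rw [hT, Finset.mem_filter] at hy hy'
    exact huw ((hy.2.2 w hy'.2.1 (ne_zero_of_cls hv hw)).symm)
  have hcard := Finset.card_le_card (Finset.subset_univ ((cls Q e f (Q (v : V))).biUnion T))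
  rw [Finset.card_biUnion hdis, Finset.card_univ] at hcard
  have h40 := (Finset.card_nsmul_le_sum _ _ 4 hbig).trans hcard
  rw [zeros_two h p hq (Q (v : V)) hv, smul_eq_mul] at h40
  rw [hq] at hi
  omega

end Cfsg.Agent.PSU4Index
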