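/-
A subgroup with a hyperplane of every root group is everything; a point fixed by one root group and fixed
by every root group that has a fixing element is fixed by all of them.
-/
import Cfsg.Agent.Lib.PSU4Index.Basic

set_option autoImplicit false

namespace Cfsg.Agent.PSU4Index

open QuadraticMap Module Cfsg.Agent.Orth Cfsg.Agent.OrthDeg Cfsg.Agent.OrthMin

variable {F V : Type*} [Field F] [AddCommGroup V] [Module F V] {Q : QuadraticForm F V}
variable [FiniteDimensional F V] [Fintype F] (h : Six Q)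
include h

/-- All root elements give the whole group. -/
theorem top_of_all {H : Subgroup (omg Q)} (hH : ∀ e w, e ≠ 0 → Q e = 0 → polar Q e w = 0 → tr Q e w ∈ H) :
    H = ⊤ := by
  by_contra hne
  obtain ⟨e, f, p, hK⟩ := exists_root_not_mem h.good hne
  exact hK (eq_top_iff.2 fun y _ => mem_kPart.2 (hH e y p.ne p.qe (mem_pperp.1 y.2).1))

/-- Hyperplanes of all root groups generate. -/
theorem top_of_hyper {H : Subgroup (omg Q)}
    (hH : ∀ e, e ≠ 0 → Q e = 0 → ∃ v, polar Q e v = 0 ∧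
      ∀ w, polar Q e w = 0 → polar Q v w = 0 → tr Q e w ∈ H) : H = ⊤ := by
  haveI : Finite V := Module.finite_of_finite F
  refine top_of_all h fun e w he0 he hew => ?_
  obtain ⟨f, hf, hf0⟩ := exists_partner h.good.nd he0 he
  have p : IsPair Q e f := ⟨he, hf0, hf⟩
  suffices hK : kPart h.good p H = ⊤ by
    have h1 := mem_kPart.1 (show (⟨_, perp_part_mem p hew⟩ : pperp Q e f) ∈ kPart h.good p H by
      rw [hK]; trivial)
    rwa [← tr_shift h.good he (mem_pperp.1 (perp_part_mem p hew)).1 (polar Q w f), sub_add_cancel] at h1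
  refine h.sing_span p _ fun g hg c => ?_
  rw [mem_kPart, Submodule.coe_smul]
  obtain ⟨hge, -⟩ := mem_pperp.1 g.2
  rcases eq_or_ne g 0 with rfl | hg0
  · rw [Submodule.coe_zero, smul_zero, tr_zero h.good he]; exact H.one_mem
  obtain ⟨v, -, hv⟩ := hH e he0 he
  by_cases hvg : polar Q v (g : V) = 0
  · exact hv _ (by rw [b_smul_right, hge, mul_zero]) (by rw [b_smul_right, hvg, mul_zero])
  obtain ⟨vg, -, hvg'⟩ := hH g (fun h0 => hg0 (Subtype.ext h0)) hg
  -- the plane orthogonal to e, f, g and a partner of g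
  obtain ⟨g', hgg, hg'0⟩ := exists_partner (h.nd_perp p) hg0 hg
  have pg : IsPair (restr Q (pperp Q e f)) g g' := ⟨hg, hg'0, hgg⟩
  have h2 := finrank_pperp pg
  rw [h.four p] at h2
  obtain ⟨W, hW⟩ : ∃ W, pperp (restr Q (pperp Q e f)) g g' = W := ⟨_, rfl⟩
  rw [hW] at h2
  let L : W →ₗ[F] F := ((polarBilin Q vg).comp (pperp Q e f).subtype).comp W.subtype
  obtain ⟨z, hzL, hz0⟩ : ∃ z : W, L z = 0 ∧ z ≠ 0 := by
    by_contra hcon
    push Not at hcon
    have hinj : Function.Injective L := (injective_iff_map_eq_zero L).2 hcon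
    have h3 := LinearMap.finrank_le_finrank_of_injective hinj
    rw [finrank_self] at h3
    omega
  have hzW := mem_pperp.1 (hW ▸ z.2 : (z : pperp Q e f) ∈ pperp (restr Q (pperp Q e f)) g g')
  obtain ⟨y0, hy0⟩ : ∃ y : W, polar (restr Q (pperp Q e f)) (z : pperp Q e f) y ≠ 0 := by
    by_contra hcon
    push Not at hcon
    subst hW
    exact hz0 (eq_zero_of_b (pperp_nondeg (h.nd_perp p) pg) fun y => hcon y)
  have hyW := mem_pperp.1 (hW ▸ y0.2 : (y0 : pperp Q e f) ∈ pperp (restr Q (pperp Q e f)) g g')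
  obtain ⟨Z, hZ⟩ : ∃ Z, (((z : pperp Q e f)) : V) = Z := ⟨_, rfl⟩
  obtain ⟨hze, -⟩ := mem_pperp.1 (z : pperp Q e f).2
  obtain ⟨hye, -⟩ := mem_pperp.1 (y0 : pperp Q e f).2
  simp only [polar_restr] at hzW hyW hy0
  rw [hZ] at hzW hy0 hze
  obtain ⟨y, hy, hyv, hye', hyg, hyz⟩ : ∃ y, tr Q e y ∈ H ∧ polar Q v y = 0 ∧ polar Q e y = 0 ∧
      polar Q (g : V) y = 0 ∧ polar Q Z y ≠ 0 := by
    obtain ⟨t, ht⟩ : ∃ t, polar Q v ((y0 : pperp Q e f) : V) / polar Q v (g : V) = t := ⟨_, rfl⟩
    have h1 : polar Q v (((y0 : pperp Q e f) : V) - t • (g : V)) = 0 := by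
      rw [b_sub_right, b_smul_right, ← ht, div_mul_cancel₀ _ hvg, sub_self]
    have h2 : polar Q e (((y0 : pperp Q e f) : V) - t • (g : V)) = 0 := by
      rw [b_sub_right, b_smul_right, hye, hge, mul_zero, sub_zero]
    refine ⟨_, hv _ h2 h1, h1, h2, ?_, ?_⟩
    · rw [b_sub_right, b_smul_right, hyW.1, b_self, hg]; ring
    · rw [b_sub_right, b_smul_right, b_comm Z (g : V), hzW.1, mul_zero, sub_zero]; exact hy0
  have hzH : tr Q (g : V) Z ∈ H := hvg' Z hzW.1 (by rw [← hZ]; exact hzL)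
  obtain ⟨s, hs⟩ : ∃ s, -c / polar Q Z y = s := ⟨_, rfl⟩
  have hsy : tr Q e (s • y) ∈ H :=
    hv _ (by rw [b_smul_right, hye', mul_zero]) (by rw [b_smul_right, hyv, mul_zero])
  have hfix : app (tr Q (g : V) Z) e = e := tr_fix h.good hg hzW.1 hge hze
  have hse : polar Q e (s • y) = 0 := by rw [b_smul_right, hye', mul_zero]
  have key := (conj_tr h.good he (g := tr Q (g : V) Z) (s := (1 : F)) (by rw [hfix, one_smul]) hse one_ne_zero).2
  have hmem := H.mul_mem (H.mul_mem hzH hsy) (H.inv_mem hzH)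
  rw [key, one_smul, tr_apply h.good hg hzW.1, b_smul_left s y (g : V), b_comm y (g : V), hyg, b_smul_left s y Z,
    b_comm y Z, mul_zero, mul_zero, add_zero, zero_smul, add_zero, sub_eq_add_neg, ← neg_smul,
    tr_add h.good he hse (by rw [b_smul_right, hge, mul_zero])] at hmem
  have := H.mul_mem (H.inv_mem hsy) hmem
  rw [inv_mul_cancel_left] at this
  convert this using 3
  rw [← hs, div_mul_cancel₀ _ hyz, neg_neg]

variable {X : Type*} [MulAction (omg Q) X]

/-- The point is fixed by all root elements at e. -/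
def Fixd (Q : QuadraticForm F V) [MulAction (omg Q) X] (e : V) (x : X) : Prop :=
  ∀ w, polar Q e w = 0 → tr Q e w • x = x

/-- The point is fixed by no nontrivial root element at e. -/
def Freed (Q : QuadraticForm F V) [MulAction (omg Q) X] (e : V) (x : X) : Prop :=
  ∀ w, polar Q e w = 0 → tr Q e w • x = x → tr Q e w = 1

/-- One fixed root group spreads to all. -/
theorem fix_all (hd : ∀ e, e ≠ 0 → Q e = 0 → ∀ x : X, Fixd Q e x ∨ Freed Q e x) {z : X} {e₀ : V}
    (he₀ : e₀ ≠ 0) (hq₀ : Q e₀ = 0) (hz : Fixd Q e₀ z) : ∀ g : omg Q, g • z = z := by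
  have nbr : ∀ a b, a ≠ 0 → Q a = 0 → b ∉ Submodule.span F {a} → Q b = 0 → polar Q a b = 0 →
      Fixd Q a z → Fixd Q b z := by
    intro a b ha0 ha hb hb0 hab hfix
    have hbn : b ≠ 0 := fun h0 => hb (by rw [h0]; exact Submodule.zero_mem _)
    rcases hd b hbn hb0 z with h1 | h1
    · exact h1
    exfalso
    have hba : polar Q b (-a) = 0 := by rw [← neg_one_smul F a, b_smul_right, b_comm, hab, mul_zero]
    have h2 := hfix b hab
    rw [tr_swap h.good ha hb0 hab] at h2
    obtain ⟨t, ht⟩ := Submodule.mem_span_singleton.1 (h.tr_eq_one hb0 hbn hba (h1 _ hba h2))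
    have ht0 : t ≠ 0 := fun h0 => ha0 (neg_eq_zero.1 (by rw [← ht, h0, zero_smul]))
    exact hb (Submodule.mem_span_singleton.2 ⟨-t⁻¹, by
      rw [neg_smul, ← smul_neg, ← ht, smul_smul, inv_mul_cancel₀ ht0, one_smul]⟩)
  have all : ∀ b, b ≠ 0 → Q b = 0 → Fixd Q b z := by
    intro b hb hb0
    by_cases hbs : b ∈ Submodule.span F {e₀}
    · obtain ⟨t, rfl⟩ := Submodule.mem_span_singleton.1 hbs
      intro w hw
      rw [b_smul_left] at hw
      have hw' := (mul_eq_zero.1 hw).resolve_left fun h0 => hb (by rw [h0, zero_smul])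
      rw [tr_scale h.good t hq₀ hw']
      exact hz _ (by rw [b_smul_right, hw', mul_zero])
    by_cases hp : polar Q e₀ b = 0
    · exact nbr e₀ b he₀ hq₀ hbs hb0 hp hz
    · have p : IsPair Q e₀ ((polar Q e₀ b)⁻¹ • b) :=
        ⟨hq₀, by rw [q_smul, hb0, mul_zero], by rw [b_smul_right, inv_mul_cancel₀ hp]⟩
      obtain ⟨g, g', pg, hg, -⟩ := h.exists_pair_in p
      obtain ⟨hg1, hg2⟩ := mem_pperp.1 hg
      rw [b_smul_left] at hg2
      have hg2' := (mul_eq_zero.1 hg2).resolve_left (inv_ne_zero hp)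
      refine nbr g b pg.ne pg.qe (fun hm => hp ?_) hb0 (by rw [b_comm]; exact hg2')
        (nbr e₀ g he₀ hq₀ (fun hm => ?_) pg.qe hg1 hz)
      · obtain ⟨t, rfl⟩ := Submodule.mem_span_singleton.1 hm
        rw [b_smul_right, hg1, mul_zero]
      · obtain ⟨t, rfl⟩ := Submodule.mem_span_singleton.1 hm
        rw [b_smul_right, b_comm b e₀] at hg2'
        exact pg.ne (by rw [(mul_eq_zero.1 hg2').resolve_right hp, zero_smul])
  intro g
  have htop : MulAction.stabilizer (omg Q) z = ⊤ := top_of_all h fun e w he0 he hew => all e he0 he w hew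
  exact MulAction.mem_stabilizer_iff.1 (htop ▸ Subgroup.mem_top g)

end Cfsg.Agent.PSU4Index
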