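/-
A transitive action on fewer points than there are singular points has every root group semiregular.
-/
import Cfsg.Agent.Lib.PSU4Index.Dichotomy
import Cfsg.Agent.Lib.PSU4Index.Spread

set_option autoImplicit false

namespace Cfsg.Agent.PSU4Index

open QuadraticMap Module Cfsg.Agent.Orth Cfsg.Agent.OrthDeg Cfsg.Agent.OrthMin
open scoped Classical

variable {F V : Type*} [Field F] [AddCommGroup V] [Module F V] {Q : QuadraticForm F V}
variable [FiniteDimensional F V] [Fintype F]
variable {e f : V} {X : Type*} [MulAction (omg Q) X] [Fintype X] [Finite V]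
variable (h : Six Q) (p : IsPair Q e f)

include h

omit [Fintype X] in
theorem kPart_card (x : X) :
    Nat.card (dual h p x) * Nat.card (kPart h.good p (MulAction.stabilizer (omg Q) x)) =
      Nat.card (pperp Q e f) := card_dualK (h.nd_perp p) _

omit [Fintype X] in
theorem freed_of_top {x : X} (hx : dual h p x = ⊤) : Freed Q e x := by
  intro w hw hfix
  have h1 := kPart_card h p x
  rw [hx, AddSubgroup.card_top, mul_eq_left₀ Nat.card_pos.ne'] at h1
  have hbot := AddSubgroup.eq_bot_of_card_eq _ h1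
  have hmem : (⟨_, perp_part_mem p hw⟩ : pperp Q e f) ∈ kPart h.good p (MulAction.stabilizer (omg Q) x) := by
    rw [mem_kPart, MulAction.mem_stabilizer_iff]
    show tr Q e (w - polar Q w f • e) • x = x
    rwa [sub_eq_add_neg, ← neg_smul, tr_shift h.good p.qe hw]
  rw [hbot, AddSubgroup.mem_bot] at hmem
  have h2 : w - polar Q w f • e = 0 := congrArg Subtype.val hmem
  rw [sub_eq_zero.1 h2, tr_self h.good p.qe]

omit [Fintype X] in
theorem top_of_freed {x : X} (hx : Freed Q e x) : dual h p x = ⊤ := by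
  have hbot : kPart h.good p (MulAction.stabilizer (omg Q) x) = ⊥ :=
    (AddSubgroup.eq_bot_iff_forall _).2 fun y hy => h.root_inj p (hx _ (mem_pperp.1 y.2).1 hy)
  have h1 := kPart_card h p x
  rw [hbot, AddSubgroup.card_bot, mul_one] at h1
  exact AddSubgroup.eq_top_of_card_eq _ h1

omit [Fintype X] in
theorem fixd_of_bot {x : X} (hx : dual h p x = ⊥) : Fixd Q e x := by
  intro w hw
  have h1 := kPart_card h p x
  rw [hx, AddSubgroup.card_bot, one_mul] at h1
  have htop := AddSubgroup.eq_top_of_card_eq _ h1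
  have hmem : (⟨_, perp_part_mem p hw⟩ : pperp Q e f) ∈ kPart h.good p (MulAction.stabilizer (omg Q) x) := by
    rw [htop]; trivial
  rw [mem_kPart, MulAction.mem_stabilizer_iff] at hmem
  rwa [← tr_shift h.good p.qe (mem_pperp.1 (perp_part_mem p hw)).1 (polar Q w f), sub_add_cancel] at hmem

omit [Finite V] [Fintype X] in
theorem freed_smul {e' : V} {g : omg Q} (hg : app g e = e') (he : Q e = 0) {x : X} (hx : Freed Q e x) :
    Freed Q e' (g • x) := by
  intro w hw hfix
  have h0 : polar Q e (app g⁻¹ w) = 0 := by rw [← b_app g, app_app_inv, hg, hw]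
  have h1 := tr_conj h.good g he h0
  rw [hg, app_app_inv] at h1
  rw [← h1] at hfix ⊢
  rw [mul_smul, mul_smul, inv_smul_smul, smul_left_cancel_iff] at hfix
  rw [hx _ h0 hfix, mul_one, mul_inv_cancel]

variable (hi : Fintype.card X ≤ Nat.card F ^ 4 + Nat.card F ^ 3 + Nat.card F)
include hi

/-- Some root group has a regular orbit. -/
theorem exists_top {x : X} (hx : MulAction.stabilizer (omg Q) x ≠ ⊤) :
    ∃ e, e ≠ 0 ∧ Q e = 0 ∧ Freed Q e x := by
  by_contra hcon
  push Not at hcon
  refine hx (top_of_hyper h fun e he0 he => ?_)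
  obtain ⟨f, hf, hf0⟩ := exists_partner h.good.nd he0 he
  have p : IsPair Q e f := ⟨he, hf0, hf⟩
  rcases dichotomy h p hi x with ⟨v, hv⟩ | htop
  · refine ⟨v, (mem_pperp.1 v.2).1, fun w hw hvw => ?_⟩
    have hle : Submodule.span F (dual h p x : Set (pperp Q e f)) ≤ Submodule.span F {v} :=
      Submodule.span_le.2 hv
    have hmem : (⟨_, perp_part_mem p hw⟩ : pperp Q e f) ∈ kPart h.good p (MulAction.stabilizer (omg Q) x) := by
      refine perp_span_dualK_le (h.nd_perp p) _ fun b hb => ?_
      obtain ⟨t, rfl⟩ := Submodule.mem_span_singleton.1 (hle hb)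
      rw [b_smul_left, polar_restr]
      show t * polar Q (v : V) (w - polar Q w f • e) = 0
      rw [b_sub_right, b_smul_right, hvw, b_comm (v : V) e, (mem_pperp.1 v.2).1]
      ring
    rw [mem_kPart] at hmem
    rwa [← tr_shift h.good p.qe (mem_pperp.1 (perp_part_mem p hw)).1 (polar Q w f), sub_add_cancel] at hmem
  · exact absurd (freed_of_top h p htop) (hcon e he0 he)

/-- Next to a regular orbit the root group only fixes points, unless all but one singular point are used. -/
theorem top_or {x₀ : X} (hx₀ : dual h p x₀ = ⊤) :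
    (Finset.univ.filter fun x : X => dual h p x = ⊤).card = Nat.card F ^ 4 ∧
      ((∀ x : X, dual h p x = ⊤ ∨ dual h p x = ⊥) ∨
        Fintype.card X = Nat.card F ^ 4 + Nat.card F ^ 3 + Nat.card F) := by
  haveI := Fintype.ofFinite (pperp Q e f)
  obtain ⟨O, hO⟩ : ∃ O, (Finset.univ.filter fun x : X => dual h p x = ⊤) = O := ⟨_, rfl⟩
  rw [hO]
  have hq : 2 ≤ Nat.card F := Finite.one_lt_card
  have hY : Nat.card (pperp Q e f) = Nat.card F ^ 4 := by rw [card_submodule, h.four p]
  have horb : ∀ x : X, dual h p x = ⊤ →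
      (MulAction.orbit (rootSub h.good p) x).toFinset.card = Nat.card F ^ 4 := fun x hx => by
    rw [← Set.ncard_eq_toFinset_card', ← Nat.card_coe_set_eq, card_orbit_root h p, hx, AddSubgroup.card_top, hY]
  have hsub : ∀ x : X, dual h p x = ⊤ → (MulAction.orbit (rootSub h.good p) x).toFinset ⊆ O := by
    intro x hx y hy
    rw [Set.mem_toFinset] at hy
    rw [← hO]
    exact Finset.mem_filter.2 ⟨Finset.mem_univ _, (show dual h p y = dual h p x from orbit_fibre h p hy).trans hx⟩
  have hOc : O.card = Nat.card F ^ 4 := by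
    rw [← horb x₀ hx₀]
    refine congrArg Finset.card (Finset.Subset.antisymm (fun y hy => ?_) (hsub x₀ hx₀))
    rw [← hO] at hy
    rw [Set.mem_toFinset]
    by_contra hy'
    have hdis : Disjoint (MulAction.orbit (rootSub h.good p) x₀).toFinset
        (MulAction.orbit (rootSub h.good p) y).toFinset := by
      rw [Finset.disjoint_left]
      intro z hz hz'
      rw [Set.mem_toFinset] at hz hz'
      exact hy' (MulAction.orbit_eq_iff.2 hz ▸ MulAction.orbit_eq_iff.2 hz' ▸ MulAction.mem_orbit_self y)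
    have h1 := Finset.card_le_univ ((MulAction.orbit (rootSub h.good p) x₀).toFinset ∪
      (MulAction.orbit (rootSub h.good p) y).toFinset)
    rw [Finset.card_union_of_disjoint hdis, horb _ hx₀, horb _ (Finset.mem_filter.1 hy).2] at h1
    have h2 : Nat.card F ^ 3 + Nat.card F < Nat.card F ^ 4 := by nlinarith [Nat.mul_le_mul hq hq, pow_pos (show 0 < Nat.card F by omega) 2, Nat.mul_le_mul_right (Nat.card F ^ 3) hq]
    omega
  refine ⟨hOc, ?_⟩
  have hOcompl : (Finset.univ \ O).card + Nat.card F ^ 4 = Fintype.card X := by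
    rw [← hOc, Finset.card_sdiff_add_card_eq_card (Finset.subset_univ _), Finset.card_univ]
  -- each covered class is covered twice
  have key : ∀ (C : Finset (pperp Q e f)) (ρ : ℚ), (∀ u ∈ C, 2 ≤ cw h p X u) →
      (∀ x ∈ Finset.univ \ O, ((C.filter fun v => v ∈ dual h p x).card : ℚ) ≤ ρ * Nat.card (dual h p x)) →
      (C.card : ℚ) ≤ ρ * (Finset.univ \ O).card := by
    intro C ρ h2 hρ
    have hsum := sum_cw h p C (X := X)
    have h1 : (2 : ℚ) * C.card ≤ ∑ v ∈ C, cw h p X v := by
      rw [mul_comm, ← nsmul_eq_mul, ← Finset.sum_const]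
      exact Finset.sum_le_sum h2
    rw [hsum, ← Finset.sum_sdiff (Finset.subset_univ O)] at h1
    have h3 : ∑ x ∈ O, ((C.filter fun v => v ∈ dual h p x).card : ℚ) * wt h p x = C.card := by
      rw [Finset.sum_congr rfl (g := fun _ => (C.card : ℚ) / (Nat.card F ^ 4 : ℕ)) fun x hx => by
        rw [← hO] at hx
        rw [wt, (Finset.mem_filter.1 hx).2, Finset.filter_true_of_mem (fun v _ => AddSubgroup.mem_top v),
          AddSubgroup.card_top, hY, mul_one_div],
        Finset.sum_const, nsmul_eq_mul, hOc]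
      have hne : ((Nat.card F ^ 4 : ℕ) : ℚ) ≠ 0 := by
        have : 0 < Nat.card F ^ 4 := by positivity
        exact_mod_cast this.ne'
      field_simp
    linarith [sum_wt_le h p C (Finset.univ \ O) hρ]
  have two_le : ∀ (x : X) (v u : pperp Q e f) (k : F), dual h p x ≠ ⊤ → v ∈ dual h p x → v ≠ 0 → u ≠ 0 →
      k ≠ 0 → Q (v : V) = k * k * Q (u : V) → 2 ≤ cw h p X u := by
    intro x v u k hx hv hv0 hu0 hk hq'
    obtain ⟨g, hg, hgv⟩ := exists_phi h p hv0 hu0 hk hq'
    refine le_trans ?_ (card_le_cw h p u)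
    have hsub : ({⊤, dual h p (g • x)} : Finset (AddSubgroup (pperp Q e f))) ⊆
        ((Finset.univ : Finset X).filter fun z => u ∈ dual h p z).image (dual h p) := by
      intro A hA
      rcases Finset.mem_insert.1 hA with rfl | hA
      · exact Finset.mem_image.2 ⟨x₀, Finset.mem_filter.2 ⟨Finset.mem_univ _, by rw [hx₀]; trivial⟩, hx₀⟩
      · rw [Finset.mem_singleton.1 hA]
        exact Finset.mem_image.2 ⟨g • x, Finset.mem_filter.2 ⟨Finset.mem_univ _, hgv ▸ phi_mem h p g hk hg hv⟩, rfl⟩
    have hne : (⊤ : AddSubgroup (pperp Q e f)) ≠ dual h p (g • x) := fun h' => hx (by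
      refine AddSubgroup.eq_top_of_card_eq _ ?_
      rw [← card_dual_smul h p g hk hg, ← h', AddSubgroup.card_top])
    have := Finset.card_le_card hsub
    rw [Finset.card_pair hne] at this
    exact_mod_cast this
  -- no non-singular vector outside the regular orbit
  have hsing : ∀ x : X, dual h p x ≠ ⊤ → ∀ v ∈ dual h p x, Q ((v : pperp Q e f) : V) = 0 := by
    intro x hx v hv
    by_contra hv0
    obtain ⟨C, hC⟩ : ∃ C, cls Q e f (Q (v : V)) = C := ⟨_, rfl⟩
    have h2 : ∀ u ∈ C, 2 ≤ cw h p X u := by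
      intro u hu
      rw [← hC] at hu
      obtain ⟨k, hk, hk'⟩ := mem_cls.1 hu
      exact two_le x v u k⁻¹ hx hv (fun h0 => hv0 (by rw [h0]; exact map_zero _))
        (fun h0 => ne_zero_of_cls hv0 hu (by rw [h0]; exact map_zero _)) (inv_ne_zero hk)
        (by rw [hk']; field_simp)
    have hc1 := (card_cls h p hv0).1
    rw [hC] at hc1
    have hrest : ((Finset.univ \ O).card : ℚ) ≤ (Nat.card F : ℚ) ^ 3 + Nat.card F := by
      exact_mod_cast (by omega : (Finset.univ \ O).card ≤ Nat.card F ^ 3 + Nat.card F)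
    rcases Nat.lt_or_ge (Nat.card F) 4 with hlt | hge
    · interval_cases hqv : Nat.card F
      · have hb := key C (3 / 4) h2 fun y _ => by
          have := (ratio h p hv0 (dual h p y)).2.2 hqv
          rw [hC] at this
          have : (4 : ℚ) * (C.filter fun u => u ∈ dual h p y).card ≤ 3 * Nat.card (dual h p y) := by
            exact_mod_cast this
          linarith
        have h10 : (C.card : ℚ) = 10 := by rw [← hC]; exact_mod_cast zeros_two h p hqv _ hv0
        have hr' : ((Finset.univ \ O).card : ℚ) ≤ 10 := le_trans hrest (by norm_num)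
        linarith
      · have hb := key C (2 / 3) h2 fun y _ => by
          have := (ratio h p hv0 (dual h p y)).2.1 hqv
          rw [hC] at this
          have : (3 : ℚ) * (C.filter fun u => u ∈ dual h p y).card ≤ 2 * Nat.card (dual h p y) := by
            exact_mod_cast this
          linarith
        have h30 : (30 : ℚ) ≤ C.card := by exact_mod_cast (by omega : 30 ≤ C.card)
        have hr' : ((Finset.univ \ O).card : ℚ) ≤ 30 := le_trans hrest (by norm_num)
        linarith
    · have hb := key C 1 h2 fun y _ => by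
        have := (ratio h p hv0 (dual h p y)).1
        rw [hC] at this
        rw [one_mul]
        exact_mod_cast this
      have hb' : C.card ≤ (Finset.univ \ O).card := by rw [one_mul] at hb; exact_mod_cast hb
      have h5 : 3 * (Nat.card F ^ 3 + Nat.card F) ≤ (Nat.card F - 1) * (Nat.card F ^ 3 + Nat.card F) :=
        Nat.mul_le_mul_right _ (by omega)
      have : 0 < Nat.card F ^ 3 := by positivity
      omega
  by_cases hall : ∀ x : X, dual h p x = ⊤ ∨ dual h p x = ⊥
  · exact Or.inl hall
  right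
  push Not at hall
  obtain ⟨x, hxt, hxb⟩ := hall
  obtain ⟨a, ha, ha0⟩ : ∃ a ∈ dual h p x, a ≠ 0 := by
    by_contra hcon
    push Not at hcon
    exact hxb ((AddSubgroup.eq_bot_iff_forall _).2 hcon)
  obtain ⟨S, hS⟩ : ∃ S, (Finset.univ.filter fun u : pperp Q e f => u ≠ 0 ∧ Q (u : V) = 0) = S := ⟨_, rfl⟩
  have h2 : ∀ u ∈ S, 2 ≤ cw h p X u := by
    intro u hu
    rw [← hS] at hu
    obtain ⟨hu0, hu1⟩ := (Finset.mem_filter.1 hu).2
    exact two_le x a u 1 hxt ha ha0 hu0 one_ne_zero (by rw [hsing x hxt a ha, hu1, mul_zero])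
  have hρ : ∀ y ∈ Finset.univ \ O, ((S.filter fun v => v ∈ dual h p y).card : ℚ) ≤
      (((Nat.card F : ℚ) - 1) / Nat.card F) * Nat.card (dual h p y) := by
    intro y hy
    have hyt : dual h p y ≠ ⊤ := fun h' => (Finset.mem_sdiff.1 hy).2 (by
      rw [← hO]; exact Finset.mem_filter.2 ⟨Finset.mem_univ _, h'⟩)
    rcases dichotomy h p hi y with ⟨v, hv⟩ | h'
    swap
    · exact absurd h' hyt
    have hle : Nat.card (dual h p y) ≤ Nat.card F := by
      refine (Nat.card_le_card_of_injective (β := Submodule.span F ({v} : Set (pperp Q e f)))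
        (fun b => ⟨b.1, hv _ b.2⟩) fun b c hbc => Subtype.ext (Subtype.mk.inj hbc)).trans ?_
      rw [Module.natCard_eq_pow_finrank (K := F)]
      calc _ ≤ Nat.card F ^ 1 := Nat.pow_le_pow_right (by omega) (by
            refine (finrank_span_le_card ({v} : Set (pperp Q e f))).trans ?_
            simp)
        _ = _ := pow_one _
    have hlt : (S.filter fun w => w ∈ dual h p y).card + 1 ≤ Nat.card (dual h p y) := by
      rw [Nat.card_eq_fintype_card, Fintype.card_subtype]
      refine Finset.card_lt_card (Finset.ssubset_iff_of_subset (fun w hw => ?_) |>.2 ⟨0, ?_, ?_⟩)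
      · exact Finset.mem_filter.2 ⟨Finset.mem_univ _, (Finset.mem_filter.1 hw).2⟩
      · exact Finset.mem_filter.2 ⟨Finset.mem_univ _, (dual h p y).zero_mem⟩
      · intro h0
        rw [← hS] at h0
        exact (Finset.mem_filter.1 (Finset.mem_filter.1 h0).1).2.1 rfl
    have hpos : (0 : ℚ) < Nat.card F := by exact_mod_cast (by omega : 0 < Nat.card F)
    have h1 : ((S.filter fun w => w ∈ dual h p y).card : ℚ) + 1 ≤ Nat.card (dual h p y) := by exact_mod_cast hlt
    have h3 : (Nat.card (dual h p y) : ℚ) ≤ Nat.card F := by exact_mod_cast hle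
    rw [div_mul_eq_mul_div, le_div_iff₀ hpos]
    nlinarith
  have hb := key S _ h2 hρ
  have hSc : S.card + 1 = (Nat.card F - 1) * Nat.card F ^ 2 + Nat.card F := by
    rw [← h.card_sing p, Nat.card_eq_fintype_card, Fintype.card_subtype]
    have : (Finset.univ.filter fun v : pperp Q e f => restr Q (pperp Q e f) v = 0) = insert 0 S := by
      ext u
      rw [Finset.mem_insert, ← hS, Finset.mem_filter, Finset.mem_filter, restr_apply]
      by_cases hu : u = 0
      · subst hu; simp
      · simp [hu]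
    rw [this, Finset.card_insert_of_notMem (by rw [← hS]; simp)]
  have hS' : (S.card : ℚ) = ((Nat.card F : ℚ) - 1) * ((Nat.card F : ℚ) ^ 2 + 1) := by
    have h1 : ((S.card : ℚ)) + 1 = ((Nat.card F - 1 : ℕ) : ℚ) * (Nat.card F : ℚ) ^ 2 + Nat.card F := by
      exact_mod_cast hSc
    rw [Nat.cast_sub (by omega), Nat.cast_one] at h1
    linarith
  have hpos : (0 : ℚ) < (Nat.card F : ℚ) - 1 := by
    have : (2 : ℚ) ≤ Nat.card F := by exact_mod_cast hq
    linarith
  have hpos' : (0 : ℚ) < Nat.card F := by linarith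
  rw [hS', div_mul_eq_mul_div, le_div_iff₀ hpos', mul_assoc] at hb
  have h4 := le_of_mul_le_mul_left hb hpos
  have h4' : (Nat.card F ^ 2 + 1) * Nat.card F ≤ (Finset.univ \ O).card := by exact_mod_cast h4
  have e3 : (Nat.card F ^ 2 + 1) * Nat.card F = Nat.card F ^ 3 + Nat.card F := by ring
  omega

/-- Every root group is semiregular. -/
theorem semiregular [MulAction.IsPretransitive (omg Q) X] {x₀ : X} (hx₀ : MulAction.stabilizer (omg Q) x₀ ≠ ⊤)
    (hex : ∀ e f (p : IsPair Q e f), Fintype.card X = Nat.card F ^ 4 + Nat.card F ^ 3 + Nat.card F →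
      ∀ x y : X, Nat.card (dual h p x) = Nat.card (dual h p y)) :
    Fintype.card X = Nat.card F ^ 4 ∧ ∀ e, e ≠ 0 → Q e = 0 → ∀ x : X, Freed Q e x := by
  obtain ⟨e₁, he₁, hq₁, hf₁⟩ := exists_top h hi hx₀
  have htop : ∀ e f (p : IsPair Q e f), ∃ x : X, dual h p x = ⊤ := by
    intro e f p
    obtain ⟨g, hg⟩ := h.transit he₁ p.ne hq₁ p.qe
    exact ⟨g • x₀, top_of_freed h p (freed_smul h hg hq₁ hf₁)⟩
  have hall : ∀ e f (p : IsPair Q e f), (∀ x : X, dual h p x = ⊤ ∨ dual h p x = ⊥) := by
    intro e f p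
    obtain ⟨x, hx⟩ := htop e f p
    refine (top_or h p hi hx).2.resolve_right fun hcard => ?_
    have hsame : ∀ y : X, dual h p y = ⊤ := fun y => AddSubgroup.eq_top_of_card_eq _ (by
      rw [hex e f p hcard y x, hx, AddSubgroup.card_top])
    have := (top_or h p hi hx).1
    rw [Finset.filter_true_of_mem (fun y _ => hsame y), Finset.card_univ, hcard] at this
    have : 0 < Nat.card F := Nat.card_pos
    omega
  have hd : ∀ e, e ≠ 0 → Q e = 0 → ∀ x : X, Fixd Q e x ∨ Freed Q e x := by
    intro e he0 he x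
    obtain ⟨f, hf, hf0⟩ := exists_partner h.good.nd he0 he
    rcases hall e f ⟨he, hf0, hf⟩ x with h1 | h1
    · exact Or.inr (freed_of_top h _ h1)
    · exact Or.inl (fixd_of_bot h _ h1)
  have hfree : ∀ e, e ≠ 0 → Q e = 0 → ∀ x : X, Freed Q e x := by
    intro e he0 he x
    refine (hd e he0 he x).resolve_left fun hfix => hx₀ (eq_top_iff.2 fun g _ => ?_)
    have hz := fix_all h hd he0 he hfix
    obtain ⟨k, hk⟩ := MulAction.exists_smul_eq (omg Q) x x₀
    rw [hz k] at hk
    subst hk
    exact hz g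
  refine ⟨?_, hfree⟩
  obtain ⟨e, f, p⟩ := h.exists_pair
  obtain ⟨x, hx⟩ := htop e f p
  rw [← (top_or h p hi hx).1, Finset.filter_true_of_mem
    (fun y _ => top_of_freed h p (hfree e p.ne p.qe y)), Finset.card_univ]

end Cfsg.Agent.PSU4Index
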