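/-
The index of a proper subgroup of Omega of a six-dimensional space of Witt index two.
-/
import Cfsg.Agent.Lib.PSU4Index.Cases
import Cfsg.Agent.Lib.OrthMinIndex.Rel

set_option autoImplicit false

namespace Cfsg.Agent.PSU4Index

open QuadraticMap Module Cfsg.Agent.Orth Cfsg.Agent.OrthDeg Cfsg.Agent.OrthMin
open scoped Classical

variable {F V : Type*} [Field F] [AddCommGroup V] [Module F V] {Q : QuadraticForm F V}
variable [FiniteDimensional F V] [Fintype F] (h : Six Q)
include h

/-- The index of the stabiliser of a singular point. -/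
theorem index_lineStab {e : V} (he0 : e ≠ 0) (he : Q e = 0) :
    (lineStab Q e).index = Nat.card F ^ 4 + Nat.card F ^ 3 + Nat.card F + 1 := by
  haveI : Finite V := Module.finite_of_finite F
  have hq : 2 ≤ Nat.card F := Finite.one_lt_card
  have hmain : (lineStab Q e).index * (Nat.card F - 1) + 1 = Nat.card {v : V // Q v = 0} := by
    have hopt := Nat.card_congr (Equiv.optionSubtypeNe (⟨0, map_zero Q⟩ : {v : V // Q v = 0}))
    rw [Finite.card_option] at hopt
    rw [← hopt, show Nat.card F - 1 = Nat.card {s : F // s ≠ 0} by have := card_scalar_ne (F := F); omega,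
      Subgroup.index, ← Nat.card_prod]
    congr 1
    refine Nat.card_congr (Equiv.ofBijective
      (fun k => (⟨⟨(k.2 : F) • app k.1.out e, by rw [q_smul, q_app, he, mul_zero]⟩, fun h => ?_⟩ :
        {v : {v : V // Q v = 0} // v ≠ ⟨0, map_zero Q⟩})) ⟨?_, ?_⟩)
    · exact (smul_ne_zero k.2.2 (app_ne _ he0)) (congrArg Subtype.val h)
    · rintro ⟨k, s, hs⟩ ⟨k', s', hs'⟩ h
      have h' : s • app k.out e = s' • app k'.out e := congrArg (fun v => (v.1 : V)) h
      have hk : k = k' := by
        rw [← QuotientGroup.out_eq' k, ← QuotientGroup.out_eq' k', QuotientGroup.eq]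
        refine ⟨s / s', div_ne_zero hs hs', ?_⟩
        have h2 : app k'.out e = (s'⁻¹ * s) • app k.out e := by
          rw [mul_smul, h', smul_smul, inv_mul_cancel₀ hs', one_smul]
        rw [app_mul, h2, app, map_smul]
        show (s'⁻¹ * s) • app k.out⁻¹ (app k.out e) = _
        rw [app_inv_app, mul_comm, ← div_eq_mul_inv]
      subst hk
      have hss : s = s' := smul_left_injective F (app_ne _ he0) h'
      subst hss
      rfl
    · rintro ⟨⟨v, hv⟩, hv0⟩
      have hv0' : v ≠ 0 := fun h => hv0 (Subtype.ext h)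
      obtain ⟨g, hg⟩ := h.transit he0 hv0' he hv
      obtain ⟨s, hs, hse⟩ : g⁻¹ * (QuotientGroup.mk g : omg Q ⧸ lineStab Q e).out ∈ lineStab Q e :=
        QuotientGroup.eq.1 (QuotientGroup.out_eq' _).symm
      refine ⟨(QuotientGroup.mk g, ⟨s⁻¹, inv_ne_zero hs⟩), Subtype.ext (Subtype.ext ?_)⟩
      show s⁻¹ • app (QuotientGroup.mk g : omg Q ⧸ lineStab Q e).out e = v
      have h1 : app (QuotientGroup.mk g : omg Q ⧸ lineStab Q e).out e = s • v := by
        have h2 := congrArg (app g) hse
        rw [app_mul, app_app_inv] at h2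
        rw [h2, ← hg]
        exact map_smul g.1.1 s e
      rw [h1, smul_smul, inv_mul_cancel₀ hs, one_smul]
  rw [h.ty.2] at hmain
  obtain ⟨r, hr⟩ : ∃ r, Nat.card F = r + 1 := ⟨Nat.card F - 1, by omega⟩
  rw [hr] at hmain ⊢
  simp only [zc, Nat.add_sub_cancel] at hmain
  exact Nat.eq_of_mul_eq_mul_right (show 0 < r by omega) (Nat.add_right_cancel (m := 1) (hmain.trans (by ring)))

variable {X : Type*} [MulAction (omg Q) X] [Fintype X] [MulAction.IsPretransitive (omg Q) X] [Finite V]

/-- When all points but one are used the line stabiliser is transitive. -/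
theorem dual_const (hcard : Fintype.card X = Nat.card F ^ 4 + Nat.card F ^ 3 + Nat.card F) {e f : V}
    (p : IsPair Q e f) (x y : X) : Nat.card (dual h p x) = Nat.card (dual h p y) := by
  haveI : Finite (omg Q) := finite_omega
  obtain ⟨L, hL⟩ : ∃ L, lineStab Q e = L := ⟨_, rfl⟩
  obtain ⟨S, hS⟩ : ∃ S, MulAction.stabilizer (omg Q) x = S := ⟨_, rfl⟩
  have hSi : S.index = Fintype.card X := by
    rw [← hS, MulAction.index_stabilizer_of_transitive (G := omg Q) x, Nat.card_eq_fintype_card]
  have hLi : L.index = Fintype.card X + 1 := by rw [← hL, index_lineStab h p.ne p.qe, hcard]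
  have horb : Nat.card (MulAction.orbit L x) = S.relIndex L := by
    rw [Nat.card_coe_set_eq, ← MulAction.index_stabilizer (G := L) x, ← hS]
    rfl
  have e1 : S.relIndex L * L.index = L.relIndex S * S.index := by
    rw [← Subgroup.inf_relIndex_right S L, Subgroup.relIndex_mul_index inf_le_right,
      ← Subgroup.inf_relIndex_left S L, Subgroup.relIndex_mul_index inf_le_left]
  rw [hSi, hLi] at e1
  have hdvd : Fintype.card X ∣ S.relIndex L := by
    have h1 : Fintype.card X ∣ S.relIndex L * (Fintype.card X + 1) := ⟨L.relIndex S, by rw [e1, mul_comm]⟩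
    rw [Nat.mul_add, Nat.mul_one] at h1
    exact (Nat.dvd_add_right (Dvd.intro_left _ rfl)).1 h1
  have hall : MulAction.orbit L x = Set.univ := by
    refine Set.eq_of_subset_of_ncard_le (Set.subset_univ _) ?_ (Set.toFinite _)
    rw [Set.ncard_univ, Nat.card_eq_fintype_card, ← Nat.card_coe_set_eq, horb]
    haveI : Nonempty (MulAction.orbit L x) := ⟨⟨x, MulAction.mem_orbit_self x⟩⟩
    exact Nat.le_of_dvd (horb ▸ Nat.card_pos) hdvd
  obtain ⟨⟨g, hg⟩, hgy⟩ : y ∈ MulAction.orbit L x := hall ▸ Set.mem_univ y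
  rw [← hL] at hg
  obtain ⟨k, hk, hge⟩ := hg
  rw [show y = g • x from hgy.symm, card_dual_smul h p g hk hge]

variable (hcard : Fintype.card X = Nat.card F ^ 4) (hfree : ∀ e, e ≠ 0 → Q e = 0 → ∀ x : X, Freed Q e x)
include hcard hfree

/-- The root group is regular. -/
theorem exists_root {e f : V} (p : IsPair Q e f) (x z : X) :
    ∃ y : pperp Q e f, tr Q e (y : V) • x = z := by
  have hall : MulAction.orbit (rootSub h.good p) x = Set.univ := by
    refine Set.eq_of_subset_of_ncard_le (Set.subset_univ _) ?_ (Set.toFinite _)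
    rw [Set.ncard_univ, Nat.card_eq_fintype_card, ← Nat.card_coe_set_eq, card_orbit_root h p,
      top_of_freed h p (hfree e p.ne p.qe x), AddSubgroup.card_top, card_submodule, h.four p, hcard]
  obtain ⟨⟨r, hr⟩, hrz⟩ : z ∈ MulAction.orbit (rootSub h.good p) x := hall ▸ Set.mem_univ z
  obtain ⟨y, rfl⟩ := hr
  exact ⟨y.toAdd, hrz⟩

/-- At least four elements: a torus element kills the semiregular case. -/
theorem not_regular_big (hq : 4 ≤ Nat.card F) (x₀ : X) : False := by
  obtain ⟨e, f, p⟩ := h.exists_pair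
  obtain ⟨s, hs, hs1⟩ := exists_sq_ne hq
  obtain ⟨t, hte, -, hty⟩ := scale_mem h.good p hs
  have hne : s * s - 1 ≠ 0 := sub_ne_zero.2 hs1
  have hconj : ∀ y : pperp Q e f, t * tr Q e (y : V) = tr Q e ((s * s) • (y : V)) * t := fun y => by
    have h1 := (conj_tr h.good p.qe hte (mem_pperp.1 y.2).1 (mul_ne_zero hs hs)).2
    rw [hty _ y.2] at h1
    rw [← h1, inv_mul_cancel_right]
  -- a point fixed by the torus element
  obtain ⟨y₁, hy₁⟩ := exists_root h hcard hfree p x₀ (t • x₀)
  obtain ⟨y, hy⟩ : ∃ y, -((s * s - 1)⁻¹ • y₁) = y := ⟨_, rfl⟩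
  obtain ⟨x, hx⟩ : ∃ x, tr Q e (y : V) • x₀ = x := ⟨_, rfl⟩
  have hsmul : ∀ z : pperp Q e f, polar Q e ((s * s) • (z : V)) = 0 := fun z => by
    rw [b_smul_right, (mem_pperp.1 z.2).1, mul_zero]
  have htx : t • x = x := by
    rw [← hx, ← mul_smul, hconj, mul_smul, ← hy₁, ← mul_smul,
      ← tr_add h.good p.qe (hsmul y) (mem_pperp.1 y₁.2).1]
    congr 2
    rw [← hy, Submodule.coe_neg, Submodule.coe_smul]
    have hcancel := inv_mul_cancel₀ hne
    match_scalars <;> first | ring1 | linear_combination hcancel | linear_combination -hcancel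
  -- a root element commuting with it
  obtain ⟨g, g', pg, hg, hg'⟩ := h.exists_pair_in p
  obtain ⟨c, d, pc⟩ : ∃ c d : V, IsPair Q c d := ⟨e, f, p⟩
  obtain ⟨w, hw, hwg⟩ : ∃ w ∈ pperp Q e f, polar Q g w = 0 ∧ w ∉ Submodule.span F {g} := by
    have hd : 1 < finrank F (pperp Q e f) := by rw [h.four p]; norm_num
    by_contra hcon
    push Not at hcon
    let L : pperp Q e f →ₗ[F] F := (polarBilin Q g).comp (pperp Q e f).subtype
    have hker : LinearMap.ker L ≤ Submodule.span F {(⟨g, hg⟩ : pperp Q e f)} := fun w hw => by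
      obtain ⟨u, hu⟩ := Submodule.mem_span_singleton.1 (hcon w w.2 hw)
      exact Submodule.mem_span_singleton.2 ⟨u, Subtype.ext hu⟩
    have h1 := L.finrank_range_add_finrank_ker
    have h2 := (LinearMap.range L).finrank_le
    have h3 := Submodule.finrank_mono hker
    rw [finrank_span_singleton (fun h0 => pg.ne (congrArg Subtype.val h0))] at h3
    rw [finrank_self] at h2
    rw [h.four p] at h1
    omega
  obtain ⟨hwg, hwn⟩ := hwg
  have hcomm : t * tr Q g w = tr Q g w * t := by
    have h1 := tr_conj h.good t pg.qe hwg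
    rw [hty _ hg, hty _ hw] at h1
    conv_rhs => rw [← h1, inv_mul_cancel_right]
  obtain ⟨r, hr⟩ := exists_root h hcard hfree p (tr Q g w • x) x
  have hr' : tr Q e ((s * s) • (r : V)) • tr Q g w • x = x := by
    have h1 := congrArg (fun z => t • z) hr
    rw [htx, ← mul_smul t, hconj, mul_smul (tr Q e ((s * s) • (r : V))) t, ← mul_smul t, hcomm,
      mul_smul (tr Q g w) t, htx] at h1
    exact h1
  have hr0 : r = 0 := by
    have h1 : tr Q e ((s * s - 1) • (r : V)) • tr Q g w • x = tr Q g w • x := by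
      rw [sub_smul, one_smul, sub_eq_add_neg, tr_add h.good p.qe (hsmul r)
        (by rw [← neg_one_smul F (r : V), b_smul_right, (mem_pperp.1 r.2).1, mul_zero]),
        tr_neg h.good p.qe (mem_pperp.1 r.2).1, mul_smul]
      have h2 : tr Q e ((s * s) • (r : V)) * (tr Q e (r : V))⁻¹ = (tr Q e (r : V))⁻¹ * tr Q e ((s * s) • (r : V)) :=
        root_comm h.good p (tr_mem_root h.good p (hsmul r)) (inv_mem (tr_mem_root h.good p (mem_pperp.1 r.2).1))
      rw [← mul_smul, h2, mul_smul, hr']
      conv_lhs => rw [← hr]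
      rw [inv_smul_smul]
    have h3 := hfree e p.ne p.qe _ _ (by rw [b_smul_right, (mem_pperp.1 r.2).1, mul_zero]) h1
    have h4 := h.root_inj p (y := (s * s - 1) • r) (by rw [Submodule.coe_smul]; exact h3)
    exact (smul_eq_zero.1 h4).resolve_left hne
  rw [hr0, Submodule.coe_zero, tr_zero h.good p.qe, one_smul] at hr
  exact hwn (h.tr_eq_one pg.qe pg.ne hwg (hfree g pg.ne pg.qe x w hwg hr))

/-- Two elements: an involution kills the semiregular case. -/
theorem not_regular_two (hq : Nat.card F = 2) (x₀ : X) : False := by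
  have h2 : (2 : F) = 0 := by
    have := FiniteField.cast_card_eq_zero F
    rw [← Nat.card_eq_fintype_card, hq] at this
    exact_mod_cast this
  obtain ⟨e, f, p⟩ := h.exists_pair
  obtain ⟨g, g', pg⟩ := (h.ty.restrict p).exists_pair (h.nd_perp p)
  have hW2 : finrank F (pperp (restr Q (pperp Q e f)) g g') = 2 := by
    have := finrank_pperp pg
    rw [h.four p] at this
    omega
  obtain ⟨w, hw, hw0⟩ := (pperp (restr Q (pperp Q e f)) g g').ne_bot_iff.1
    (fun h0 => by rw [h0, finrank_bot] at hW2; omega)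
  obtain ⟨hgw, hg'w⟩ := mem_pperp.1 hw
  simp only [polar_restr] at hgw hg'w
  obtain ⟨hge, -⟩ := mem_pperp.1 g.2
  obtain ⟨hwe, -⟩ := mem_pperp.1 w.2
  have hgq : Q (g : V) = 0 := pg.qe
  have hg0 : (g : V) ≠ 0 := fun h0 => pg.ne (Subtype.ext h0)
  obtain ⟨z, hz⟩ : ∃ z, tr Q (g : V) (w : V) = z := ⟨_, rfl⟩
  have hzz : z * z = 1 := by
    rw [← hz, ← tr_add h.good hgq hgw hgw, ← two_smul F (w : V), h2, zero_smul, tr_zero h.good hgq]
  obtain ⟨a, ha⟩ := exists_root h hcard hfree p (z • x₀) x₀
  obtain ⟨hae, -⟩ := mem_pperp.1 a.2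
  have hze : app z e = (1 : F) • e := by rw [← hz, one_smul, tr_fix h.good hgq hgw hge hwe]
  have hza := conj_tr h.good p.qe hze hae one_ne_zero
  rw [one_smul] at hza
  have hzi : z⁻¹ = z := inv_eq_of_mul_eq_one_right hzz
  rw [hzi] at hza
  have hfix : tr Q e ((a : V) + app z (a : V)) • x₀ = x₀ := by
    rw [tr_add h.good p.qe hae hza.1, ← hza.2, mul_smul, mul_smul, mul_smul]
    have h3 : z • x₀ = (tr Q e (a : V))⁻¹ • z • z • x₀ := by
      rw [← mul_smul z z, hzz, one_smul, eq_inv_smul_iff]; exact ha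
    conv_lhs => rw [ha]
    exact ha
  have hsum := h.tr_eq_one p.qe p.ne (by rw [b_add_right, hae, hza.1, add_zero])
    (hfree e p.ne p.qe x₀ _ (by rw [b_add_right, hae, hza.1, add_zero]) hfix)
  obtain ⟨τ, hτ⟩ := Submodule.mem_span_singleton.1 hsum
  rw [← hz, tr_apply h.good hgq hgw] at hτ
  have e1 : τ • e = polar Q (a : V) (g : V) • (w : V) -
      (polar Q (a : V) (w : V) + Q (w : V) * polar Q (a : V) (g : V)) • (g : V) := by
    rw [hτ]; linear_combination (norm := module) h2 • ((a : V))
  have hag : polar Q (a : V) (g : V) = 0 := by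
    obtain ⟨y, hy⟩ : ∃ y : pperp (restr Q (pperp Q e f)) g g', polar Q (w : V) ((y : pperp Q e f) : V) ≠ 0 := by
      by_contra hcon
      push Not at hcon
      exact hw0 (congrArg Subtype.val (eq_zero_of_b (pperp_nondeg (h.nd_perp p) pg)
        (x := (⟨w, hw⟩ : pperp (restr Q (pperp Q e f)) g g')) fun y => hcon y))
    have h3 := congrArg (fun v => polar Q v ((y : pperp Q e f) : V)) e1
    obtain ⟨hy1, -⟩ := mem_pperp.1 y.2
    simp only [polar_restr] at hy1
    simp only [b_smul_left, b_sub_left, hy1, (mem_pperp.1 (y : pperp Q e f).2).1, mul_zero, sub_zero] at h3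
    exact (mul_eq_zero.1 h3.symm).resolve_right hy
  have haw : polar Q (a : V) (w : V) = 0 := by
    have h3 := congrArg (fun v => polar Q v (g' : V)) e1
    have hgg : polar Q (g : V) (g' : V) = 1 := pg.ed
    simp only [b_smul_left, b_sub_left, (mem_pperp.1 g'.2).1, hag, hgg, b_comm (w : V) (g' : V), hg'w, mul_zero,
      zero_mul, add_zero, mul_one, zero_sub] at h3
    exact neg_eq_zero.1 h3.symm
  -- coordinates
  obtain ⟨α, ε, hcoord⟩ : ∃ α ε : F, (a : V) = α • (g : V) + ε • (w : V) := by
    obtain ⟨r, hr⟩ : ∃ r, a - polar (restr Q (pperp Q e f)) a g' • g - polar (restr Q (pperp Q e f)) a g • g' = r :=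
      ⟨_, rfl⟩
    have hrW : r ∈ pperp (restr Q (pperp Q e f)) g g' := hr ▸ pperp_part pg a
    have hrw : polar Q (r : V) (w : V) = 0 := by
      rw [← hr]
      simp only [Submodule.coe_sub, Submodule.coe_smul, b_sub_left, b_smul_left, polar_restr, haw, hgw, hg'w,
        mul_zero, sub_zero]
    let L : pperp (restr Q (pperp Q e f)) g g' →ₗ[F] F :=
      ((polarBilin Q (w : V)).comp (pperp Q e f).subtype).comp (pperp (restr Q (pperp Q e f)) g g').subtype
    have hker : LinearMap.ker L ≤ Submodule.span F {(⟨w, hw⟩ : pperp (restr Q (pperp Q e f)) g g')} := by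
      have hne : LinearMap.range L ≠ ⊥ := by
        intro h0
        rw [LinearMap.range_eq_bot] at h0
        exact hw0 (congrArg Subtype.val (eq_zero_of_b (pperp_nondeg (h.nd_perp p) pg)
          (x := (⟨w, hw⟩ : pperp (restr Q (pperp Q e f)) g g')) fun y => LinearMap.congr_fun h0 y))
      have h1 := L.finrank_range_add_finrank_ker
      have h3 : 0 < finrank F (LinearMap.range L) := by
        rcases Nat.eq_zero_or_pos (finrank F (LinearMap.range L)) with h4 | h4
        · exact absurd (Submodule.finrank_eq_zero.1 h4) hne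
        · exact h4
      refine le_of_eq (Submodule.eq_of_le_of_finrank_le ((Submodule.span_singleton_le_iff_mem _ _).2 ?_) ?_).symm
      · show polar Q (w : V) (w : V) = 0
        rw [b_self, h2, zero_mul]
      · rw [finrank_span_singleton (fun h0 => hw0 (congrArg Subtype.val h0))]
        omega
    obtain ⟨ε, hε⟩ := Submodule.mem_span_singleton.1
      (hker (show L ⟨r, hrW⟩ = 0 by show polar Q (w : V) (r : V) = 0; rw [b_comm]; exact hrw))
    have hεV : ε • (w : V) = (r : V) :=
      congrArg (fun y : pperp (restr Q (pperp Q e f)) g g' => ((y : pperp Q e f) : V)) hε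
    refine ⟨polar Q (a : V) (g' : V), ε, ?_⟩
    rw [hεV, ← hr]
    simp only [Submodule.coe_sub, Submodule.coe_smul, polar_restr, hag, zero_smul, sub_zero]
    abel
  -- the element is a root element
  obtain ⟨u, hu⟩ : ∃ u, tr Q e (a : V) * z = u := ⟨_, rfl⟩
  have hux : u • x₀ = x₀ := by rw [← hu, mul_smul]; exact ha
  have hag' : polar Q e (α • (g : V)) = 0 := by rw [b_smul_right, hge, mul_zero]
  have hgo : polar Q (g : V) e = 0 := by rw [b_comm]; exact hge
  by_cases hε : ε = 0
  · have hu' : u = tr Q (g : V) (α • (-e) + (w : V)) := by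
      rw [← hu, hcoord, hε, zero_smul, add_zero,
        tr_swap h.good p.qe (by rw [q_smul, hgq, mul_zero]) hag',
        tr_scale h.good α hgq (by rw [← neg_one_smul F e, b_smul_right, hgo, mul_zero]),
        tr_add h.good hgq (by rw [b_smul_right, ← neg_one_smul F e, b_smul_right, hgo, mul_zero, mul_zero]) hgw, hz]
    have horth : polar Q (g : V) (α • (-e) + (w : V)) = 0 := by
      rw [b_add_right, b_smul_right, ← neg_one_smul F e, b_smul_right, hgo, hgw]; ring
    obtain ⟨c, hc⟩ := Submodule.mem_span_singleton.1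
      (h.tr_eq_one hgq hg0 horth (hfree _ hg0 hgq x₀ _ horth (hu' ▸ hux)))
    obtain ⟨y, hy⟩ : ∃ y : pperp (restr Q (pperp Q e f)) g g', polar Q (w : V) ((y : pperp Q e f) : V) ≠ 0 := by
      by_contra hcon
      push Not at hcon
      exact hw0 (congrArg Subtype.val (eq_zero_of_b (pperp_nondeg (h.nd_perp p) pg)
        (x := (⟨w, hw⟩ : pperp (restr Q (pperp Q e f)) g g')) fun y => hcon y))
    have h3 := congrArg (fun v => polar Q v ((y : pperp Q e f) : V)) hc
    obtain ⟨hy1, -⟩ := mem_pperp.1 y.2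
    simp only [polar_restr] at hy1
    simp only [b_smul_left, b_add_left, hy1, ← neg_one_smul F e, (mem_pperp.1 (y : pperp Q e f).2).1, mul_zero,
      zero_add] at h3
    exact hy h3.symm
  · have hε1 := one_of_two hq hε
    obtain ⟨c, hc⟩ : ∃ c, Q (w : V) = c := ⟨_, rfl⟩
    have hs0 : Q (e + (g : V)) = 0 := by
      rw [q_add, p.qe, hgq, hge]; ring
    have hsg : polar Q (e + (g : V)) (g : V) = 0 := by
      rw [b_add_left, hge, b_self, hgq]; ring
    have hsw : polar Q (e + (g : V)) (w : V) = 0 := by rw [b_add_left, hwe, hgw, add_zero]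
    -- root elements along the line of e and g
    have hline : ∀ d : F, tr Q e (d • (g : V)) = tr Q (e + (g : V)) (d • (g : V)) := fun d => by
      have hd1 : polar Q (g : V) (d • -e) = 0 := by
        rw [b_smul_right, ← neg_one_smul F e, b_smul_right, hgo, mul_zero, mul_zero]
      rw [tr_swap h.good p.qe (by rw [q_smul, hgq, mul_zero]) (by rw [b_smul_right, hge, mul_zero]),
        tr_swap h.good hs0 (by rw [q_smul, hgq, mul_zero]) (by rw [b_smul_right, hsg, mul_zero]),
        tr_scale h.good d hgq (by rw [← neg_one_smul F e, b_smul_right, hgo, mul_zero]),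
        tr_scale h.good d hgq (by rw [← neg_one_smul F, b_smul_right, b_comm, hsg, mul_zero]),
        show d • -(e + (g : V)) = d • -e + (-d) • (g : V) by module, tr_shift h.good hgq hd1]
    have hsplit := tr_add_left h.good p.qe hgq hge hwe hgw
    have hu' : u = tr Q (e + (g : V)) ((α + c) • (g : V) + (w : V)) := by
      have hs2 : polar Q (e + (g : V)) ((α + c) • (g : V)) = 0 := by rw [b_smul_right, hsg, mul_zero]
      rw [← hu, ← hz, hcoord, hε1, one_smul, tr_add h.good p.qe hag' hwe, tr_add h.good hs0 hs2 hsw,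
        ← hline, add_smul, tr_add h.good p.qe hag' (by rw [b_smul_right, hge, mul_zero]), mul_assoc, mul_assoc]
      congr 1
      rw [hsplit, hc]
      have h3 : tr Q e ((-c) • (g : V)) = (tr Q e (c • (g : V)))⁻¹ := by
        rw [neg_smul, tr_neg h.good p.qe (by rw [b_smul_right, hge, mul_zero])]
      have h4 : tr Q (e + (g : V)) ((c) • (g : V)) = tr Q e (c • (g : V)) := (hline c).symm
      have hcm : tr Q e (c • (g : V)) * (tr Q e (w : V) * tr Q (g : V) (w : V) * tr Q e ((-c) • (g : V))) =
          tr Q e (w : V) * tr Q (g : V) (w : V) := by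
        have hs3 : polar Q (e + (g : V)) (c • (g : V)) = 0 := by rw [b_smul_right, hsg, mul_zero]
        have h5 : tr Q e (w : V) * tr Q (g : V) (w : V) * tr Q e ((-c) • (g : V)) = tr Q (e + (g : V)) (w : V) := by
          rw [hsplit, hc]
        rw [h5, ← h4, ← tr_add h.good hs0 hs3 hsw, add_comm (c • (g : V)) (w : V), tr_add h.good hs0 hsw hs3, ← h5,
          h4, h3, inv_mul_cancel_right]
      exact hcm.symm
    have horth : polar Q (e + (g : V)) ((α + c) • (g : V) + (w : V)) = 0 := by
      rw [b_add_right, b_smul_right, hsg, hsw]; ring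
    have hs1 : e + (g : V) ≠ 0 := fun h0 => by
      have := congrArg (fun v => polar Q v f) h0
      simp only [b_add_left, p.ed, b_comm (g : V) f, (mem_pperp.1 g.2).2, b_zero_left, add_zero] at this
      exact one_ne_zero this
    obtain ⟨d, hd⟩ := Submodule.mem_span_singleton.1
      (h.tr_eq_one hs0 hs1 horth (hfree _ hs1 hs0 x₀ _ horth (hu' ▸ hux)))
    obtain ⟨y, hy⟩ : ∃ y : pperp (restr Q (pperp Q e f)) g g', polar Q (w : V) ((y : pperp Q e f) : V) ≠ 0 := by
      by_contra hcon
      push Not at hcon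
      exact hw0 (congrArg Subtype.val (eq_zero_of_b (pperp_nondeg (h.nd_perp p) pg)
        (x := (⟨w, hw⟩ : pperp (restr Q (pperp Q e f)) g g')) fun y => hcon y))
    have h3 := congrArg (fun v => polar Q v ((y : pperp Q e f) : V)) hd
    obtain ⟨hy1, -⟩ := mem_pperp.1 y.2
    simp only [polar_restr] at hy1
    simp only [b_smul_left, b_add_left, hy1, (mem_pperp.1 (y : pperp Q e f).2).1, mul_zero, add_zero,
      zero_add] at h3
    exact hy h3.symm

omit hcard hfree

/-- A proper subgroup has index at least the number of singular points, with one possible exception. -/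
theorem small_index {H : Subgroup (omg Q)} (hH : H ≠ ⊤)
    (hlt : H.index ≤ Nat.card F ^ 4 + Nat.card F ^ 3 + Nat.card F) : Nat.card F = 3 ∧ H.index = 81 := by
  haveI : Finite (omg Q) := finite_omega
  haveI := Fintype.ofFinite (omg Q ⧸ H)
  have hX : Fintype.card (omg Q ⧸ H) = H.index := by rw [Subgroup.index, Nat.card_eq_fintype_card]
  have hst : MulAction.stabilizer (omg Q) ((1 : omg Q) : omg Q ⧸ H) ≠ ⊤ := by
    rwa [MulAction.stabilizer_quotient]
  obtain ⟨hcard, hfree⟩ := semiregular h (X := omg Q ⧸ H) (hX ▸ hlt) hst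
    (fun e f p hc x y => dual_const h hc p x y)
  have hq : 2 ≤ Nat.card F := Finite.one_lt_card
  rcases Nat.lt_or_ge (Nat.card F) 4 with hlt' | hge
  · interval_cases hqv : Nat.card F
    · exact (not_regular_two h (by rw [hqv]; exact hcard) hfree hqv ((1 : omg Q) : omg Q ⧸ H)).elim
    · exact ⟨rfl, by omega⟩
  · exact (not_regular_big h hcard hfree hge ((1 : omg Q) : omg Q ⧸ H)).elim

end Cfsg.Agent.PSU4Index
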