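/-
The minimal index of a proper subgroup of PSU(4, q).
-/
import Cfsg.Agent.Lib.PSU4Index.Exclude
import Cfsg.Agent.Lib.Orthogonal.LowSixMinus
import Cfsg.Agent.Lib.Orthogonal.POmega
import Cfsg.Agent.Lib.OrthDeg.Std
import Cfsg.Agent.Lib.U43.SevenNormalizer
import Cfsg.Agent.Lib.PSUField.Congr
import Mathlib.FieldTheory.Finite.GaloisField
import Mathlib.GroupTheory.Sylow

set_option autoImplicit false

namespace Cfsg.Agent.PSU4Index

open QuadraticMap Module Cfsg.Agent.Orth Cfsg.Agent.OrthDeg Cfsg.Agent.OrthMin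

section Centre

variable {F V : Type*} [Field F] [AddCommGroup V] [Module F V] {Q : QuadraticForm F V}
variable [FiniteDimensional F V] [Fintype F]

/-- Central elements fix the singular points. -/
theorem center_le_line (h : Six Q) {e : V} (he0 : e ≠ 0) (he : Q e = 0) :
    Subgroup.center (omg Q) ≤ lineStab Q e := by
  intro z hz
  obtain ⟨f, hf, hf0⟩ := exists_partner h.good.nd he0 he
  have p : IsPair Q e f := ⟨he, hf0, hf⟩
  obtain ⟨g, g', pg, hg, hg'⟩ := h.exists_pair_in p
  have key : ∀ w, polar Q e w = 0 → tr Q (app z e) (app z w) = tr Q e w := fun w hw => by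
    rw [← tr_conj h.good z he hw, ← Subgroup.mem_center_iff.1 hz (tr Q e w), mul_inv_cancel_right]
  obtain ⟨x, hx⟩ : ∃ x, app z e = x := ⟨_, rfl⟩
  have hxe : polar Q x e = 0 := by
    by_contra hne
    -- the root element at e fixes e, the conjugate one would move it
    obtain ⟨hge, -⟩ := mem_pperp.1 hg
    have h1 := congrArg (fun u : omg Q => app u e) (key g hge)
    have hzg : polar Q (app z e) (app z g) = 0 := by rw [b_app, hge]
    simp only [tr_apply h.good he hge, tr_apply h.good (show Q (app z e) = 0 by rw [q_app, he]) hzg,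
      p.ee, hge, zero_smul, mul_zero, add_zero, sub_zero] at h1
    rw [hx] at h1
    have h2 : polar Q e x • app z g - (polar Q e (app z g) + Q (app z g) * polar Q e x) • x = 0 := by
      linear_combination (norm := module) h1
    have hxe' : polar Q e x ≠ 0 := by rwa [b_comm]
    have h3 : app z g = ((polar Q e (app z g) + Q (app z g) * polar Q e x) / polar Q e x) • app z e := by
      rw [hx, div_eq_inv_mul, mul_smul, ← sub_eq_zero.1 h2, smul_smul, inv_mul_cancel₀ hxe', one_smul]
    have h4 : g = ((polar Q e (app z g) + Q (app z g) * polar Q e x) / polar Q e x) • e := by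
      refine z.1.1.injective ?_
      rw [map_smul]
      exact h3
    have h5 := (mem_pperp.1 hg).2
    rw [h4, b_smul_right, p.de, mul_one] at h5
    exact pg.ne (by rw [h4, h5, zero_smul])
  -- the image of e is orthogonal to the orthogonal of e
  have hperp : ∀ w, polar Q e w = 0 → polar Q x w = 0 := by
    have hfix : ∀ v, polar Q e v = 0 → ∀ w, polar Q e w = 0 → polar Q v w = 0 →
        polar Q v x • app z w - (polar Q v (app z w) + Q w * polar Q v x) • x = 0 := by
      intro v hv w hw hvw
      have h1 := congrArg (fun u : omg Q => app u v) (key w hw)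
      have hzw : polar Q (app z e) (app z w) = 0 := by rw [b_app, hw]
      have hve : polar Q v e = 0 := by rw [b_comm, hv]
      simp only [tr_apply h.good he hw, tr_apply h.good (show Q (app z e) = 0 by rw [q_app, he]) hzw, q_app,
        hve, hvw, zero_smul, mul_zero, add_zero, sub_zero] at h1
      rw [hx] at h1
      linear_combination (norm := module) h1
    intro v hv
    by_contra hne
    obtain ⟨w, hw, hvw, hwn⟩ : ∃ w, polar Q e w = 0 ∧ polar Q v w = 0 ∧ w ∉ Submodule.span F {e} := by
      by_contra hcon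
      push Not at hcon
      have hle : perp Q (Submodule.span F ({e, v} : Set V)) ≤ Submodule.span F {e} := fun w hw => by
        exact hcon w (hw e (Submodule.subset_span (by simp))) (hw v (Submodule.subset_span (by simp)))
      have h1 := Submodule.finrank_mono hle
      rw [finrank_span_singleton he0] at h1
      have h2 := finrank_perp_eq h.good.nd (Submodule.span F ({e, v} : Set V))
      have h3 := finrank_span_pair_le (F := F) e v
      have h4 := h.six
      omega
    have h1 := hfix v hv w hw hvw
    have hvx : polar Q v x ≠ 0 := by rwa [b_comm]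
    refine hwn (Submodule.mem_span_singleton.2
      ⟨(polar Q v (app z w) + Q w * polar Q v x) / polar Q v x, z.1.1.injective ?_⟩)
    rw [map_smul]
    show _ • app z e = app z w
    rw [hx, div_eq_inv_mul, mul_smul, ← sub_eq_zero.1 h1, smul_smul, inv_mul_cancel₀ hvx, one_smul]
  obtain ⟨t, ht⟩ : ∃ t : F, x = t • e := by
    refine ⟨polar Q x f, ?_⟩
    have h1 := pperp_part p x
    rw [hxe, zero_smul, sub_zero] at h1
    have h2 : (⟨_, h1⟩ : pperp Q e f) = 0 := eq_zero_of_b (h.nd_perp p) fun w => by
      rw [polar_restr]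
      show polar Q (x - polar Q x f • e) (w : V) = 0
      rw [b_sub_left, b_smul_left, hperp _ (mem_pperp.1 w.2).1, (mem_pperp.1 w.2).1, mul_zero, sub_zero]
    exact sub_eq_zero.1 (congrArg Subtype.val h2)
  exact ⟨t, fun h0 => app_ne z he0 (by rw [hx, ht, h0, zero_smul]), hx.trans ht⟩

end Centre

/-- An anisotropic binary form. -/
theorem exists_aniso (K : Type*) [Field K] [Finite K] :
    ∃ a b : K, ∀ z₁ z₂ : K, z₁ ^ 2 + a * z₁ * z₂ + b * z₂ ^ 2 = 0 → z₁ = 0 ∧ z₂ = 0 := by
  have hns : ¬ Function.Surjective fun x : K => x ^ 2 + x := fun hs => by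
    have h1 := (Finite.injective_iff_surjective.2 hs) (a₁ := (0 : K)) (a₂ := -1) (by ring)
    exact one_ne_zero (neg_eq_zero.1 h1.symm)
  obtain ⟨b, hb⟩ := not_forall.1 hns
  push Not at hb
  refine ⟨1, -b, fun z₁ z₂ hz => ?_⟩
  rcases eq_or_ne z₂ 0 with h0 | h0
  · subst h0
    exact ⟨by simpa using hz, rfl⟩
  · refine absurd ?_ (hb (z₁ / z₂))
    field_simp
    linear_combination hz

/-- No subgroup of index 81 in PSU(4, 3). -/
theorem not_eightyone_small {F : Type} [Field F] [Fintype F] (hF : Fintype.card F = 9)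
    (H : Subgroup (Cfsg.PSU 4 F 3)) : H.index ≠ 81 := by
  intro hi
  haveI : Finite (Cfsg.PSU 4 F 3) := Nat.finite_of_card_ne_zero (by rw [U43.card_psu hF]; norm_num)
  have hH : Nat.card H = 40320 := by
    have := H.card_mul_index
    rw [hi, U43.card_psu hF] at this
    omega
  haveI : Fact (Nat.Prime 7) := ⟨by norm_num⟩
  obtain ⟨P⟩ := (inferInstance : Nonempty (Sylow 7 H))
  have hP : Nat.card (P : Subgroup H) = 7 := by
    have h1 : Nat.factorization 40320 7 = 1 := by
      rw [show (40320 : ℕ) = 7 * 5760 by norm_num, Nat.factorization_mul (by norm_num) (by norm_num),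
        Finsupp.add_apply, Nat.Prime.factorization_self (by norm_num),
        Nat.factorization_eq_zero_of_not_dvd (by norm_num)]
    rw [P.card_eq_multiplicity, hH, h1, pow_one]
  obtain ⟨hN, -⟩ := U43.normalizer_seven hF ((P : Subgroup H).map H.subtype)
    (by rw [Subgroup.card_map_of_injective H.subtype_injective, hP])
  have hle : ((Subgroup.normalizer ((P : Subgroup H) : Set H)).map H.subtype) ≤
      Subgroup.normalizer ((((P : Subgroup H).map H.subtype : Subgroup (Cfsg.PSU 4 F 3))) : Set (Cfsg.PSU 4 F 3)) :=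
    Subgroup.le_normalizer_map _
  have hdvd := Subgroup.card_dvd_of_le hle
  rw [hN, Subgroup.card_map_of_injective H.subtype_injective] at hdvd
  have h7 : 7 ∣ Nat.card ↥(Subgroup.normalizer ((P : Subgroup H) : Set H)) := by
    have := Subgroup.card_dvd_of_le (Subgroup.le_normalizer (H := (P : Subgroup H)))
    rwa [hP] at this
  have hn := card_sylow_modEq_one 7 H
  rw [Sylow.card_eq_index_normalizer P] at hn
  have hmul := (Subgroup.normalizer ((P : Subgroup H) : Set H)).card_mul_index
  rw [hH] at hmul
  generalize Nat.card ↥(Subgroup.normalizer ((P : Subgroup H) : Set H)) = N at hdvd h7 hmul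
  generalize (Subgroup.normalizer ((P : Subgroup H) : Set H)).index = I at hn hmul
  have hN21 : N ≤ 21 := Nat.le_of_dvd (by norm_num) hdvd
  obtain ⟨k, rfl⟩ := h7
  have hk : k ≤ 3 := by omega
  interval_cases k
  · omega
  · have : I = 5760 := by omega
    subst this
    exact absurd hn (by decide)
  · norm_num at hdvd
  · have : I = 1920 := by omega
    subst this
    exact absurd hn (by decide)

/-- No subgroup of index 81 in PSU(4, 3), in any universe. -/
theorem not_eightyone {F : Type*} [Field F] [Fintype F] {q : ℕ} (hF : Fintype.card F = 9) (hq : q = 3)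
    (H : Subgroup (Cfsg.PSU 4 F q)) : H.index ≠ 81 := by
  subst hq
  haveI : Fact (Nat.Prime 3) := ⟨by norm_num⟩
  haveI := Fintype.ofFinite (GaloisField 3 2)
  have hK : Fintype.card (GaloisField 3 2) = 9 := by
    rw [← Nat.card_eq_fintype_card, GaloisField.card 3 2 two_ne_zero]; norm_num
  obtain ⟨e⟩ := PSUField.nonempty_congr (n := 4) (q := 3)
    (FiniteField.ringEquivOfCardEq (K := F) (K' := GaloisField 3 2) (hF.trans hK.symm))
  rw [← Subgroup.index_map_equiv (H := H) e]
  exact not_eightyone_small hK _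

theorem main {F : Type*} [Field F] [Fintype F] (q : ℕ) (hF : Fintype.card F = q ^ 2) (hq : 2 ≤ q) :
    (∀ H : Subgroup (Cfsg.PSU 4 F q), H ≠ ⊤ → (q + 1) * (q ^ 3 + 1) ≤ H.index) ∧
      (∃ H : Subgroup (Cfsg.PSU 4 F q), H.index = (q + 1) * (q ^ 3 + 1)) := by
  obtain ⟨r, hchar⟩ := CharP.exists F
  obtain ⟨n, hr, hn⟩ := FiniteField.card F r
  rw [hF] at hn
  obtain ⟨m, -, hm⟩ := (Nat.dvd_prime_pow hr).1 (hn ▸ dvd_pow_self q two_ne_zero)
  have hm0 : m ≠ 0 := fun h0 => by rw [h0, pow_zero] at hm; omega
  haveI : Fact r.Prime := ⟨hr⟩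
  haveI := Fintype.ofFinite (GaloisField r m)
  have hK : Fintype.card (GaloisField r m) = q := by
    rw [← Nat.card_eq_fintype_card, GaloisField.card r m hm0, hm]
  obtain ⟨a, b, hab⟩ := exists_aniso (GaloisField r m)
  obtain ⟨iso⟩ := OrthLow.pomega_six_minus (K := F) (by rw [Nat.card_eq_fintype_card, hF, hK]) hab
  subst hK
  generalize hR : qMinus (GaloisField r m) 2 a b = R at iso
  have hnd : (polarBilin R).Nondegenerate := hR ▸ qMinus_nondeg hab 2
  have hT : HasType R 2 2 := hR ▸ hasType_qMinus hab 2
  have h : Six R := ⟨⟨hnd, by rw [hT.1]; norm_num⟩, hT⟩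
  haveI : Finite (omg R) := finite_omega
  have hcard : Nat.card (GaloisField r m) = Fintype.card (GaloisField r m) := Nat.card_eq_fintype_card
  let π : omg R →* Cfsg.PSU 4 F (Fintype.card (GaloisField r m)) :=
    iso.toMonoidHom.comp ((QuotientGroup.mk' _).comp (omegaEquiv R).symm.toMonoidHom)
  have hπ : Function.Surjective π :=
    iso.surjective.comp ((QuotientGroup.mk'_surjective _).comp (omegaEquiv R).symm.surjective)
  obtain ⟨e, f, p⟩ := h.exists_pair
  have hN : ∀ k : ℕ, (k + 1) * (k ^ 3 + 1) = k ^ 4 + k ^ 3 + k + 1 := fun k => by ring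
  refine ⟨fun H hH => ?_, (lineStab R e).map π, ?_⟩
  · by_contra hlt
    rw [not_le, hN, Nat.lt_succ_iff, ← Subgroup.index_comap_of_surjective _ hπ] at hlt
    have hne : H.comap π ≠ ⊤ := fun h0 => hH (Subgroup.index_eq_one.1 (by
      rw [← Subgroup.index_comap_of_surjective _ hπ, h0, Subgroup.index_top]))
    obtain ⟨h3, h81⟩ := small_index h hne (by rw [hcard]; exact hlt)
    rw [Subgroup.index_comap_of_surjective _ hπ] at h81
    have hq3 : Fintype.card (GaloisField r m) = 3 := hcard ▸ h3
    exact not_eightyone (by rw [hF, hq3]; rfl) hq3 H h81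
  · rw [Subgroup.index_map_eq _ hπ, index_lineStab h p.ne p.qe, hcard, hN]
    intro g hg
    refine center_le_line h p.ne p.qe ?_
    have h1 : (omegaEquiv R).symm g ∈ Subgroup.center _ :=
      (QuotientGroup.eq_one_iff _).1 (iso.injective ((MonoidHom.mem_ker.1 hg).trans (map_one iso).symm))
    rw [Subgroup.mem_center_iff] at h1 ⊢
    intro x
    simpa using congrArg (omegaEquiv R) (h1 ((omegaEquiv R).symm x))

end Cfsg.Agent.PSU4Index
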